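import Cfsg.Agent.ConjAll.Inverted

/-!
There are exactly `q + 1` Sylow 2-subgroups, so the centraliser of a Sylow 2-subgroup of a simple
group in this situation is the Sylow subgroup itself.
-/

set_option autoImplicit false
set_option linter.style.haveILetI false
set_option linter.unusedSectionVars false

namespace Cfsg.Agent.ConjAll

open Subgroup MulAction

variable {G : Type*} [Group G] [Finite G] (C : Ctx G)
include C

variable {t w : G} {a b : Sylow 2 G}

omit C [Finite G] in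
theorem centralizer_le_of_pow {x y : G} {n : ℕ} (hxy : x ^ n = y ^ n)
    (hn : n.Coprime (orderOf y)) :
    centralizer ({x} : Set G) ≤ centralizer ({y} : Set G) := by
  intro g hg
  obtain ⟨k, hk⟩ := exists_pow_eq_self_of_coprime hn
  have h : Commute g x := mem_centralizer_singleton_iff.1 hg
  refine mem_centralizer_singleton_iff.2 ?_
  rw [← hk, ← hxy]
  exact ((h.pow_right n).pow_right k).eq

theorem Ctx.Inverts.card_cent {t g : G} (hi : Inverts t g) {a b : Sylow 2 G} (hab : a ≠ b) :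
    Nat.card ↥(centralizer ({g} : Set G) ⊓ centralizer ({t} : Set G)) = Nat.card (EP a b) := by
  obtain ⟨c, c', hne, -, -, -, he⟩ := Ctx.Inverts.centres C hi
  rw [he]
  exact C.card_EP_eq hne hab

theorem Ctx.BlkData.cent_eq_of_torus (d : BlkData t w a b) {g : G}
    (hg : g ∈ Cfsg.invertedBy (XB w a b) t) (h1 : g ≠ 1) :
    centralizer ({g} : Set G) ⊓ centralizer ({t} : Set G) = EP a b := by
  have hi := Ctx.Inverts.der C d.inv hg.1.1 hg.2 h1
  refine (Subgroup.eq_of_le_of_card_ge (fun e he => mem_inf.2 ⟨?_, ?_⟩)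
    (Ctx.Inverts.card_cent C hi d.ne).le).symm
  · exact mem_centralizer_singleton_iff.2 (Ctx.BlkData.commute_E C d hg he).eq.symm
  · exact mem_centralizer_singleton_iff.2 (Ctx.BlkData.commute_t C d he).symm

theorem Ctx.BlkData.mem_torus_of_cent (d : BlkData t w a b) {g : G}
    (hg : g ∈ centralizer ({w} : Set G)) (hinv : t * g * t⁻¹ = g⁻¹)
    (he : centralizer ({g} : Set G) ⊓ centralizer ({t} : Set G) = EP a b) :
    g ∈ Cfsg.invertedBy (XB w a b) t := by
  refine ⟨⟨hg, centralizer_le_normalizer _ (mem_centralizer_iff.2 fun e hee => ?_)⟩, hinv⟩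
  rw [SetLike.mem_coe, ← he] at hee
  exact mem_centralizer_singleton_iff.1 hee.1

/-- The inverted elements of the centraliser lie in the block. -/
theorem Ctx.BlkData.inverted_eq_torus (d : BlkData t w a b) (hb : t * w ∈ b) {g : G}
    (hg : g ∈ centralizer ({w} : Set G)) (hinv : t * g * t⁻¹ = g⁻¹) :
    g ∈ Cfsg.invertedBy (XB w a b) t := by
  classical
  have hi := d.inv
  set X := centralizer ({w} : Set G) with hX
  have hodd := C.odd_centralizer_der hi.2.2.1
  let V : Subgroup G :=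
    { carrier := Cfsg.invertedBy X t
      one_mem' := ⟨one_mem _, by simp⟩
      mul_mem' := fun {g h} hg hh => ⟨mul_mem hg.1 hh.1, by
        rw [show t * (g * h) * t⁻¹ = (t * g * t⁻¹) * (t * h * t⁻¹) by group, hg.2, hh.2,
          ← mul_inv_rev, (Ctx.Inverts.commute C hi hg.1 hg.2 hh.1 hh.2).eq]⟩
      inv_mem' := fun {g} hg => ⟨inv_mem hg.1, by
        rw [show t * g⁻¹ * t⁻¹ = (t * g * t⁻¹)⁻¹ by group, hg.2]⟩ }
  obtain ⟨T, hT⟩ := Ctx.BlkData.exists_torus C d
  have hTV : T ≤ V := fun x hx => by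
    have h : x ∈ Cfsg.invertedBy (XB w a b) t := hT ▸ hx
    exact ⟨h.1.1, h.2⟩
  have hTcard : Nat.card T = C.q + 1 := by
    rw [← Ctx.BlkData.card_torus C d hb, ← hT]; rfl
  have hwV : w ∈ V := ⟨mem_centralizer_singleton_iff.2 rfl, hi.2.2.2⟩
  have hgV : g ∈ V := ⟨hg, hinv⟩
  have hV : ∀ x ∈ V, x ≠ 1 → Inverts t x := fun x hx h1 => Ctx.Inverts.der C hi hx.1 hx.2 h1
  have hexp : ∀ x ∈ V, x ^ (C.q + 1) = 1 := fun x hx => Ctx.Inverts.pow_q_succ C hi hx.1 hx.2
  rcases eq_or_ne g 1 with rfl | hg1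
  · exact ⟨one_mem _, by simp⟩
  rcases C.hq with hq | hq
  swap
  · -- exponent 33
    refine Ctx.BlkData.mem_torus_of_cent C d hg hinv ?_
    obtain ⟨p, hp, hpg⟩ := Nat.exists_prime_and_dvd
      (show orderOf g ≠ 1 from fun h => hg1 (orderOf_eq_one_iff.1 h))
    have hp33 : p ∣ 33 := by
      have := orderOf_dvd_of_pow_eq_one (hexp g hgV)
      rw [hq] at this
      exact hpg.trans this
    obtain ⟨r, hr, hrp, hr33⟩ : ∃ r : ℕ, r.Prime ∧ p.Coprime r ∧ r ∣ 33 := by
      have h311 : p ∣ 3 * 11 := hp33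
      rcases hp.dvd_mul.1 h311 with h | h
      · obtain rfl := (Nat.prime_dvd_prime_iff_eq hp Nat.prime_three).1 h
        exact ⟨11, by norm_num, by norm_num, by norm_num⟩
      · obtain rfl := (Nat.prime_dvd_prime_iff_eq hp (by norm_num)).1 h
        exact ⟨3, by norm_num, by norm_num, by norm_num⟩
    haveI : Fact r.Prime := ⟨hr⟩
    have hrT : r ∣ Nat.card T := by rw [hTcard, hq]; exact hr33
    obtain ⟨y, hy⟩ := exists_prime_orderOf_dvd_card' r hrT
    replace hy : orderOf (y : G) = r := (Subgroup.orderOf_coe y).trans hy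
    have hy1 : (y : G) ≠ 1 := fun h => hr.one_lt.ne' (by rw [← hy, h, orderOf_one])
    set g' := g ^ (orderOf g / p) with hg'
    have hg'o : orderOf g' = p := orderOf_pow_orderOf_div (orderOf_pos g).ne' hpg
    have hg'V : g' ∈ V := pow_mem hgV _
    have hg'1 : g' ≠ 1 := fun h => hp.one_lt.ne' (by rw [← hg'o, h, orderOf_one])
    have hyV : (y : G) ∈ V := hTV y.2
    have hc : Commute g' (y : G) := Ctx.Inverts.commute C hi hg'V.1 hg'V.2 hyV.1 hyV.2
    have hπV : g' * y ∈ V := mul_mem hg'V hyV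
    have hp' : (g' * y) ^ p = (y : G) ^ p := by
      rw [hc.mul_pow, show g' ^ p = 1 by rw [← hg'o]; exact pow_orderOf_eq_one g', one_mul]
    have hr' : (g' * y) ^ r = g' ^ r := by
      rw [hc.mul_pow, show (y : G) ^ r = 1 by rw [← hy]; exact pow_orderOf_eq_one _, mul_one]
    have hπ1 : g' * y ≠ 1 := fun h => by
      rw [h, one_pow] at hr'
      have := orderOf_dvd_of_pow_eq_one hr'.symm
      rw [hg'o] at this
      exact hp.one_lt.ne' (Nat.Coprime.eq_one_of_dvd hrp this)
    have hyT : (y : G) ∈ Cfsg.invertedBy (XB w a b) t := hT ▸ y.2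
    have e1 : centralizer ({g' * y} : Set G) ⊓ centralizer ({t} : Set G) = EP a b := by
      rw [← Ctx.BlkData.cent_eq_of_torus C d hyT hy1]
      refine Subgroup.eq_of_le_of_card_ge
        (inf_le_inf_right _ (centralizer_le_of_pow hp' (by rw [hy]; exact hrp))) (le_of_eq ?_)
      rw [Ctx.Inverts.card_cent C (hV _ hyV hy1) d.ne,
        Ctx.Inverts.card_cent C (hV _ hπV hπ1) d.ne]
    have e2 : centralizer ({g'} : Set G) ⊓ centralizer ({t} : Set G) = EP a b := by
      rw [← e1]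
      refine (Subgroup.eq_of_le_of_card_ge
        (inf_le_inf_right _ (centralizer_le_of_pow hr' (by rw [hg'o]; exact hrp.symm)))
        (le_of_eq ?_)).symm
      rw [Ctx.Inverts.card_cent C (hV _ hg'V hg'1) d.ne,
        Ctx.Inverts.card_cent C (hV _ hπV hπ1) d.ne]
    rw [← e2]
    refine Subgroup.eq_of_le_of_card_ge (inf_le_inf_right _ ?_) (le_of_eq ?_)
    · intro x hx
      refine mem_centralizer_singleton_iff.2 ?_
      exact ((show Commute x g from mem_centralizer_singleton_iff.1 hx).pow_right _).eq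
    · rw [Ctx.Inverts.card_cent C (hV _ hg'V hg'1) d.ne,
        Ctx.Inverts.card_cent C (hV _ hgV hg1) d.ne]
  -- exponent 9
  haveI : Fact (Nat.Prime 3) := ⟨Nat.prime_three⟩
  have h9 : ∀ x ∈ V, x ^ 3 ^ 2 = 1 := fun x hx => by
    have := hexp x hx
    rw [hq] at this
    exact this
  have hVp : IsPGroup 3 V := fun x => ⟨2, Subtype.ext (h9 x x.2)⟩
  obtain ⟨P, hP⟩ := hVp.exists_le_sylow
  by_cases hex : ∃ y : G, orderOf y = 9
  · obtain ⟨y, hy⟩ := hex
    haveI := C.h9 hq y hy P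
    haveI : IsCyclic V := Subgroup.isCyclic_of_le hP
    have hle : Nat.card V ≤ Nat.card T := by
      obtain ⟨v, hv⟩ := IsCyclic.exists_ofOrder_eq_natCard (α := V)
      rw [hTcard, hq, ← hv]
      exact Nat.le_of_dvd (by norm_num) (orderOf_dvd_of_pow_eq_one (Subtype.ext (h9 v v.2)))
    have hgT : g ∈ T := (Subgroup.eq_of_le_of_card_ge hTV hle) ▸ hgV
    exact hT ▸ hgT
  exfalso
  push Not at hex
  have h3 : ∀ x ∈ V, x ^ 3 = 1 := by
    intro x hx
    obtain ⟨k, hk, hk'⟩ := (Nat.dvd_prime_pow Nat.prime_three).1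
      (orderOf_dvd_of_pow_eq_one (h9 x hx))
    refine orderOf_dvd_iff_pow_eq_one.1 (hk' ▸ ?_)
    rcases Nat.lt_or_ge k 2 with hk2 | hk2
    · exact (Nat.pow_dvd_pow 3 (show k ≤ 1 by omega)).trans (by norm_num)
    · exfalso
      exact hex x (by rw [hk', show k = 2 by omega]; norm_num)
  -- the partition by blocks
  let f : {x : V // x ≠ 1} → Subgroup G := fun x =>
    centralizer ({(x.1 : G)} : Set G) ⊓ centralizer ({t} : Set G)
  haveI : Finite (Set.range f) := Set.finite_range f |>.to_subtype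
  haveI := Fintype.ofFinite (Set.range f)
  let f' : {x : V // x ≠ 1} → Set.range f := fun x => ⟨f x, x, rfl⟩
  have hfib : ∀ E : Set.range f, Nat.card {x // f' x = E} = 8 := by
    rintro ⟨_, x, rfl⟩
    have hx1 : ((x.1 : V) : G) ≠ 1 := fun h => x.2 (Subtype.ext h)
    have hix := hV _ x.1.2 hx1
    obtain ⟨c, c', dd, hb'⟩ := C.exists_blkData hix
    have hTc := Ctx.BlkData.card_torus C dd hb'
    have hfx : f x = EP c c' := dd.he
    have key : ∀ y ∈ Cfsg.invertedBy (XB (x.1 : G) c c') t, y ∈ V := by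
      intro y hy
      refine ⟨mem_centralizer_singleton_iff.2 ?_, hy.2⟩
      refine (Ctx.Inverts.commute C hix hy.1.1 hy.2 ?_ hi.2.2.2).eq
      exact mem_centralizer_singleton_iff.2 (mem_centralizer_singleton_iff.1 x.1.2.1).symm
    let e : {y : Cfsg.invertedBy (XB (x.1 : G) c c') t // (y : G) ≠ 1} →
        {y // f' y = (⟨f x, x, rfl⟩ : Set.range f)} := fun y =>
      ⟨⟨⟨y.1.1, key _ y.1.2⟩, fun h => y.2 (congrArg Subtype.val h)⟩,
        Subtype.ext ((Ctx.BlkData.cent_eq_of_torus C dd y.1.2 y.2).trans hfx.symm)⟩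
    have he : Function.Bijective e := by
      constructor
      · intro y y' h
        exact Subtype.ext (Subtype.ext (congrArg (fun z => ((z.1.1 : V) : G)) h))
      · rintro ⟨⟨⟨y, hy⟩, hy1⟩, hfy⟩
        have hfy' := (congrArg Subtype.val hfy).trans hfx
        have hcx : Commute y (x.1 : G) := Ctx.Inverts.commute C hi hy.1 hy.2 x.1.2.1 x.1.2.2
        have hm := Ctx.BlkData.mem_torus_of_cent C dd
          (mem_centralizer_singleton_iff.2 hcx.eq) hy.2 hfy'
        exact ⟨⟨⟨y, hm⟩, fun h => hy1 (Subtype.ext h)⟩, rfl⟩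
    rw [← Nat.card_eq_of_bijective e he]
    have h1 : (1 : G) ∈ Cfsg.invertedBy (XB (x.1 : G) c c') t := ⟨one_mem _, by simp⟩
    rw [Nat.card_congr (Equiv.subtypeEquivRight (fun y => (not_congr
      (Subtype.ext_iff (a1 := y) (a2 := ⟨1, h1⟩)).symm))), card_ne, hTc, hq]
  have h8 : 8 ∣ Nat.card V - 1 := by
    rw [← card_ne (1 : V), ← Nat.card_congr (Equiv.sigmaFiberEquiv f'), Nat.card_sigma]
    simp only [hfib, Finset.sum_const, Finset.card_univ, smul_eq_mul]
    exact Dvd.intro_left _ rfl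
  have hXcard : Nat.card X = Nat.card (EP a b) * Nat.card V := by
    rw [RankOne.card_eq_mul_inverted hi.1 hodd (fun x hx => by
      have := conj_mem_centralizer hi.2.2.2 hx
      rwa [conj_sq_self hi.1] at this), d.he]
    rfl
  have h3a : ¬ 3 ∣ Nat.card (EP a b) := fun h => Ctx.Inverts.prime_not_dvd C hi a Nat.prime_three
    (by rw [hq]; norm_num) (h.trans (Subgroup.card_dvd_of_le inf_le_left))
  have hPX : (P : Subgroup G) ≤ X := fun y hy => mem_centralizer_singleton_iff.2
    (C.hab 3 Nat.prime_three (by norm_num) P P.2 y hy w (hP hwV))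
  have hPV : V = P := by
    refine Subgroup.eq_of_le_of_card_ge hP (Nat.le_of_dvd Nat.card_pos ?_)
    have h1 : Nat.card P ∣ Nat.card (EP a b) * Nat.card V :=
      hXcard ▸ Subgroup.card_dvd_of_le hPX
    refine Nat.Coprime.dvd_of_dvd_mul_left ?_ h1
    obtain ⟨k, hk⟩ := IsPGroup.iff_card.1 P.2
    rw [hk]
    exact Nat.Coprime.pow_left k (Nat.prime_three.coprime_iff_not_dvd.2 h3a)
  have h4 := C.h3 hq P (fun v hv => h3 v (hPV ▸ hv))
    ⟨t, orderOf_eq_prime (by rw [pow_two]; exact hi.1) hi.2.1, fun v hv => (hPV ▸ hv : v ∈ V).2⟩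
    (hPV ▸ h8)
  haveI : Fact (Nat.Prime 2) := ⟨Nat.prime_two⟩
  obtain ⟨W, hW⟩ := Sylow.exists_subgroup_card_pow_prime 2
    (G := normalizer ((P : Subgroup G) : Set G)) (n := 2) h4
  have hWsq : ∀ i : W, ((i : normalizer ((P : Subgroup G) : Set G)) : G) *
      ((i : normalizer ((P : Subgroup G) : Set G)) : G) = 1 := by
    intro i
    have hp : IsPGroup 2 (W.map (normalizer ((P : Subgroup G) : Set G)).subtype) :=
      (IsPGroup.of_card hW).map _
    obtain ⟨R, hR⟩ := hp.exists_le_sylow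
    exact C.hel R _ (hR ⟨i.1, i.2, rfl⟩)
  have hinvw : ∀ i : W, i ≠ 1 → ((i : normalizer ((P : Subgroup G) : Set G)) : G) * w *
      ((i : normalizer ((P : Subgroup G) : Set G)) : G)⁻¹ = w⁻¹ := by
    intro i hi1
    set u : G := ((i : normalizer ((P : Subgroup G) : Set G)) : G) with hu
    have hu1 : u ≠ 1 := fun h => hi1 (Subtype.ext (Subtype.ext h))
    have hun : ∀ v ∈ V, u * v * u⁻¹ ∈ V := fun v hv => by
      rw [hPV] at hv ⊢
      exact (mem_normalizer_iff.1 i.1.2 v).1 hv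
    let φ : V →* V :=
      { toFun := fun v => ⟨u * v * u⁻¹, hun v v.2⟩
        map_one' := Subtype.ext (by simp)
        map_mul' := fun k l => Subtype.ext (by simp [mul_assoc]) }
    have hfp : MonoidHom.FixedPointFree φ := by
      intro v hv
      by_contra hv1
      have hv' : u * (v : G) * u⁻¹ = v := congrArg Subtype.val hv
      have hiv := hV v v.2 (fun h => hv1 (Subtype.ext h))
      have hodd' := C.odd_centralizer_der hiv.2.2.1
      have h2 : orderOf u = 2 := orderOf_eq_prime (by rw [pow_two]; exact hWsq i) hu1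
      have := Subgroup.orderOf_dvd_natCard _
        (mem_centralizer_singleton_iff.2 (mul_inv_eq_iff_eq_mul.1 hv') :
          u ∈ centralizer ({(v : G)} : Set G))
      rw [h2] at this
      exact Nat.not_even_iff_odd.2 hodd' (even_iff_two_dvd.2 this)
    have hinvol : Function.Involutive φ := fun v => Subtype.ext (by
      show u * (u * (v : G) * u⁻¹) * u⁻¹ = v
      rw [conj_sq_self (hWsq i)]
      exact RankOne.conj_conj_self (hWsq i) _)
    exact congrArg Subtype.val (congrFun (hfp.coe_eq_inv_of_involutive hinvol) ⟨w, hwV⟩)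
  -- two involutions inverting `w`
  obtain ⟨i, hi1⟩ : ∃ i : W, i ≠ 1 := by
    haveI : Nontrivial W := Finite.one_lt_card_iff_nontrivial.1 (by rw [hW]; norm_num)
    exact exists_ne 1
  obtain ⟨j, hj1, hji⟩ : ∃ j : W, j ≠ 1 ∧ j ≠ i := by
    by_contra hcon
    push Not at hcon
    have : Nat.card W ≤ Nat.card Bool := by
      refine Nat.card_le_card_of_injective (fun j : W => decide (j = 1)) fun j j' h => ?_
      have h' : (j = 1) ↔ (j' = 1) := decide_eq_decide.1 h
      by_cases hj : j = 1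
      · rw [hj, h'.1 hj]
      · rw [hcon j hj, hcon j' (mt h'.2 hj)]
    rw [hW, Nat.card_eq_fintype_card, Fintype.card_bool] at this
    omega
  set u : G := ((i : normalizer ((P : Subgroup G) : Set G)) : G)
  set v : G := ((j : normalizer ((P : Subgroup G) : Set G)) : G)
  have hcw : u * v ∈ centralizer ({w} : Set G) := by
    refine mem_centralizer_singleton_iff.2 (mul_inv_eq_iff_eq_mul.1 ?_)
    calc u * v * w * (u * v)⁻¹ = u * (v * w * v⁻¹) * u⁻¹ := by group
      _ = (u * w * u⁻¹)⁻¹ := by rw [hinvw j hj1]; group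
      _ = w := by rw [hinvw i hi1, inv_inv]
  have hij : i * j ≠ 1 := fun h => hji (Subtype.ext (Subtype.ext (by
    calc v = u * (u * v) := by rw [← mul_assoc, hWsq i, one_mul]
      _ = u := by
        rw [show u * v = 1 from congrArg (fun z : W =>
          ((z : normalizer ((P : Subgroup G) : Set G)) : G)) h, mul_one])))
  have h2 : orderOf (u * v) = 2 :=
    orderOf_eq_prime (by rw [pow_two]; exact hWsq (i * j))
      (fun h => hij (Subtype.ext (Subtype.ext h)))
  have := Subgroup.orderOf_dvd_natCard _ hcw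
  rw [h2] at this
  exact Nat.not_even_iff_odd.2 hodd (even_iff_two_dvd.2 this)

/-- There are at most `q + 1` Sylow 2-subgroups. -/
theorem Ctx.card_sylow_le : Nat.card (Sylow 2 G) ≤ C.q + 1 := by
  classical
  haveI := Fintype.ofFinite G
  haveI := Fintype.ofFinite (Sylow 2 G)
  obtain ⟨a, b, hab⟩ := C.two
  set n := Nat.card (Sylow 2 G) with hn
  set α := Nat.card (EP a b) with hα
  have hα1 : 1 ≤ α := Nat.card_pos
  have hgood := C.good_pairs_le Set.univ (fun _ _ _ _ _ _ _ _ _ _ _ _ _ => Set.mem_univ _)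
  rw [Nat.card_congr (Equiv.Set.univ _), ← hn] at hgood
  let R := {w : G // ∃ t : G, Inverts t w}
  haveI := Fintype.ofFinite R
  have hRt : ∀ r : R, ∃ t : G, Inverts t r.1 := fun r => r.2
  choose tt htt using hRt
  let Good := {p : G × G // InvPair Set.univ p ∧ Der (p.1 * p.2)}
  let f : Good → R := fun p => ⟨p.1.1 * p.1.2, p.1.1, by
    obtain ⟨⟨h1, -, c, c', -, -, -, hc, hc'⟩, hd⟩ := p.2
    exact ⟨C.hel c _ hc, h1, hd, inverts_of_sq_one (C.hel c _ hc) (C.hel c' _ hc')⟩⟩
  have hfib : ∀ r : R, Nat.card {p // f p = r} ≤ C.q + 1 := by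
    intro r
    obtain ⟨c, c', d, hb⟩ := C.exists_blkData (htt r)
    have hm : ∀ p : {p // f p = r}, tt r * p.1.1.1 ∈ Cfsg.invertedBy (XB r.1 c c') (tt r) := by
      rintro ⟨⟨⟨t', v'⟩, ⟨h1, h2, z, z', -, -, -, hz, hz'⟩, hd⟩, hp⟩
      have hw : t' * v' = r.1 := congrArg Subtype.val hp
      have hinv' : t' * r.1 * t'⁻¹ = r.1⁻¹ :=
        hw ▸ inverts_of_sq_one (C.hel z t' hz) (C.hel z' v' hz')
      refine Ctx.BlkData.inverted_eq_torus C d hb ?_ (inverts_of_sq_one d.inv.1 (C.hel z t' hz))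
      refine mem_centralizer_singleton_iff.2 (mul_inv_eq_iff_eq_mul.1 ?_)
      calc tt r * t' * r.1 * (tt r * t')⁻¹ = tt r * (t' * r.1 * t'⁻¹) * (tt r)⁻¹ := by group
        _ = (tt r * r.1 * (tt r)⁻¹)⁻¹ := by rw [hinv']; group
        _ = r.1 := by rw [(htt r).2.2.2, inv_inv]
    rw [← Ctx.BlkData.card_torus C d hb]
    refine Nat.card_le_card_of_injective
      (fun p => (⟨_, hm p⟩ : Cfsg.invertedBy (XB r.1 c c') (tt r))) fun p p' h => ?_
    have h' := mul_left_cancel (congrArg Subtype.val h)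
    refine Subtype.ext (Subtype.ext (Prod.ext h' ?_))
    have e : p.1.1.1 * p.1.1.2 = p'.1.1.1 * p'.1.1.2 :=
      (congrArg Subtype.val p.2).trans (congrArg Subtype.val p'.2).symm
    rw [h'] at e
    exact mul_left_cancel e
  have hR := card_le_mul f (C.q + 1) hfib
  -- derangements
  let Y := Σ r : R, ↥(centralizer ({r.1} : Set G) ⊓ centralizer ({tt r} : Set G))
  have hY : Nat.card Y = Nat.card R * α := by
    rw [Nat.card_sigma]
    simp only [Ctx.Inverts.card_cent C (htt _) hab, Finset.sum_const, Finset.card_univ,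
      smul_eq_mul, Nat.card_eq_fintype_card (α := R), ← hα]
  have hyp : ∀ y : Y, Commute y.1.1 (y.2 : G) ∧ (y.2 : G) ^ α = 1 ∧
      (orderOf y.1.1).Coprime α := by
    intro y
    obtain ⟨c, c', d, -⟩ := C.exists_blkData (htt y.1)
    have hcard : Nat.card (EP c c') = α := C.card_EP_eq d.ne hab
    refine ⟨(mem_centralizer_singleton_iff.1 y.2.2.1).symm, ?_, ?_⟩
    · rw [← hcard]
      exact RankOne.pow_card_mem (d.he ▸ y.2.2)
    · rw [← hcard]
      exact (Ctx.Inverts.coprime C d.inv c).coprime_dvd_right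
        (Subgroup.card_dvd_of_le inf_le_left)
  have hYd : ∀ y : Y, ∀ z : Sylow 2 G, (y.1.1 * (y.2 : G)) • z ≠ z := by
    intro y z hz
    obtain ⟨h1, h2, h3⟩ := hyp y
    have h4 := pow_mem (smul_eq_iff.1 hz) α
    rw [h1.mul_pow, h2, mul_one] at h4
    obtain ⟨k, hk⟩ := exists_pow_eq_self_of_coprime h3.symm
    refine (htt y.1).2.2.1 z (smul_eq_iff.2 ?_)
    rw [← hk]
    exact Subgroup.pow_mem _ h4 k
  have hder : Nat.card Y ≤ Nat.card {g : G // ∀ z : Sylow 2 G, g • z ≠ z} := by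
    refine Nat.card_le_card_of_injective
      (fun y => (⟨_, hYd y⟩ : {g : G // ∀ z : Sylow 2 G, g • z ≠ z})) ?_
    rintro ⟨r, y⟩ ⟨r', y'⟩ h
    have h' : r.1 * (y : G) = r'.1 * (y' : G) := congrArg Subtype.val h
    obtain ⟨h1, h2, h3⟩ := hyp ⟨r, y⟩
    obtain ⟨h1', h2', h3'⟩ := hyp ⟨r', y'⟩
    have he : (r.1 * (y : G)) ^ α = (r'.1 * (y' : G)) ^ α := by rw [h']
    rw [h1.mul_pow, h1'.mul_pow, h2, h2', mul_one, mul_one] at he
    obtain rfl : r = r' := Subtype.ext (eq_of_pow_eq_of_coprime h3 h3' he)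
    obtain rfl : y = y' := Subtype.ext (mul_left_cancel h')
    rfl
  -- weights
  let P := {p : ↥(Set.univ (α := Sylow 2 G)) × ↥(Set.univ (α := Sylow 2 G)) // p.1 ≠ p.2}
  haveI := Fintype.ofFinite P
  let wt : P → G → ℕ := fun p g =>
    if g ∈ EP p.1.1.1 p.1.2.1 then (if g = 1 then 0 else 2)
    else if g ∈ DP p.1.1.1 p.1.2.1 then C.q + 1 else 0
  let W : G → ℕ := fun g => (if g = 1 then 2 * (C.q + 1) * (n - 1) else 0) + ∑ p : P, wt p g
  have hW : ∀ g : G, 2 * (C.q + 1) * (Nat.card (fixedBy (Sylow 2 G) g) - 1) ≤ W g := by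
    intro g
    rcases eq_or_ne g 1 with rfl | hg1
    · refine le_trans (Nat.mul_le_mul_left _ (Nat.sub_le_sub_right ?_ 1))
        (le_trans (by rw [if_pos rfl]) (Nat.le_add_right _ _))
      exact Nat.card_le_card_of_injective _ Subtype.val_injective
    refine le_trans ?_ (Nat.le_add_left _ _)
    set k := Nat.card (fixedBy (Sylow 2 G) g) with hk
    rcases Nat.lt_or_ge k 2 with hk2 | hk2
    · rw [show k - 1 = 0 by omega, mul_zero]; exact Nat.zero_le _
    obtain ⟨⟨z, hz⟩, ⟨z', hz'⟩, hne⟩ := Finite.one_lt_card_iff_nontrivial.1 (hk ▸ hk2 : 1 < _)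
    have hzz : z ≠ z' := fun h => hne (Subtype.ext h)
    have hzD : g ∈ DP z z' := ⟨smul_eq_iff.1 hz, smul_eq_iff.1 hz'⟩
    let mk : ∀ c c' : Sylow 2 G, c ≠ c' → P := fun c c' h =>
      ⟨(⟨c, Set.mem_univ _⟩, ⟨c', Set.mem_univ _⟩), fun e => h (congrArg Subtype.val e)⟩
    by_cases hall : ∀ c c' : Sylow 2 G, c ≠ c' → g ∈ NS c → g ∈ NS c' → g ∈ EP c c'
    · -- all pairs are of the first kind
      have hbl : C.q + 1 ≤ k := by
        rw [← (C.block hzz).1]
        refine Nat.card_le_card_of_injective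
          (fun x : Blk z z' => (⟨x.1, smul_eq_iff.2 (x.2 (hall z z' hzz hzD.1 hzD.2))⟩ :
            fixedBy (Sylow 2 G) g)) fun x x' h => ?_
        have h' := congrArg Subtype.val h
        exact Subtype.ext h'
      let e : {c : fixedBy (Sylow 2 G) g × fixedBy (Sylow 2 G) g // c.1 ≠ c.2} → P := fun c =>
        mk c.1.1.1 c.1.2.1 fun h => c.2 (Subtype.ext h)
      have hei : Function.Injective e := fun c c' h =>
        Subtype.ext (Prod.ext (Subtype.ext (congrArg (fun p : P => p.1.1.1) h))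
          (Subtype.ext (congrArg (fun p : P => p.1.2.1) h)))
      haveI := Fintype.ofFinite {c : fixedBy (Sylow 2 G) g × fixedBy (Sylow 2 G) g // c.1 ≠ c.2}
      refine le_trans ?_ (le_trans (le_of_eq (Finset.sum_map Finset.univ ⟨e, hei⟩
        (fun p => wt p g)).symm) (Finset.sum_le_univ_sum_of_nonneg (fun _ => Nat.zero_le _)))
      have hw2 : ∀ c, wt (e c) g = 2 := fun c => by
        simp only [wt]
        rw [if_pos (hall _ _ (fun h => c.2 (Subtype.ext h)) (smul_eq_iff.1 c.1.1.2)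
          (smul_eq_iff.1 c.1.2.2)), if_neg hg1]
      simp only [Function.Embedding.coeFn_mk, hw2]
      rw [Finset.sum_const, Finset.card_univ,
        smul_eq_mul, ← Nat.card_eq_fintype_card]
      haveI := Fintype.ofFinite (fixedBy (Sylow 2 G) g)
      rw [Nat.card_congr (⟨fun z => ⟨z.1.1, z.1.2, Ne.symm z.2⟩,
        fun z => ⟨(z.1, z.2.1), Ne.symm z.2.2⟩, fun _ => rfl, fun _ => rfl⟩ :
        {c : fixedBy (Sylow 2 G) g × fixedBy (Sylow 2 G) g // c.1 ≠ c.2} ≃
          Σ c : fixedBy (Sylow 2 G) g, {c' : fixedBy (Sylow 2 G) g // c' ≠ c}), Nat.card_sigma]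
      simp only [card_ne, Finset.sum_const, Finset.card_univ, smul_eq_mul]
      rw [← Nat.card_eq_fintype_card, ← hk, mul_comm 2 (C.q + 1), mul_comm (k * (k - 1)) 2,
        ← mul_assoc 2 k, mul_comm (C.q + 1) 2]
      exact Nat.mul_le_mul_right _ (Nat.mul_le_mul_left 2 hbl)
    · push Not at hall
      obtain ⟨c, c', hcc, hgc, hgc', hgE⟩ := hall
      have hk' : k ≤ 2 := by
        have : ∀ x : fixedBy (Sylow 2 G) g, x.1 = c ∨ x.1 = c' := fun x =>
          C.fix_eq_two hcc ⟨hgc, hgc'⟩ hgE (smul_eq_iff.1 x.2)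
        have hle : k ≤ Nat.card Bool := by
          refine Nat.card_le_card_of_injective
            (fun x : fixedBy (Sylow 2 G) g => decide (x.1 = c)) fun x x' h => ?_
          have h' : (x.1 = c) ↔ (x'.1 = c) := decide_eq_decide.1 h
          by_cases hx : x.1 = c
          · exact Subtype.ext (hx.trans (h'.1 hx).symm)
          · exact Subtype.ext (((this x).resolve_left hx).trans
              ((this x').resolve_left (mt h'.2 hx)).symm)
        rwa [Nat.card_eq_fintype_card (α := Bool), Fintype.card_bool] at hle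
      have hne12 : mk c c' hcc ≠ mk c' c hcc.symm := fun h =>
        hcc (congrArg (fun p : P => p.1.1.1) h)
      refine le_trans ?_ (Finset.sum_le_sum_of_subset
        (Finset.subset_univ {mk c c' hcc, mk c' c hcc.symm}))
      rw [Finset.sum_pair hne12, show k - 1 = 1 by omega, mul_one]
      simp only [wt, mk]
      rw [if_neg hgE, if_pos (show g ∈ DP c c' from ⟨hgc, hgc'⟩),
        if_neg (fun h : g ∈ EP c' c => hgE ⟨h.2, h.1⟩),
        if_pos (show g ∈ DP c' c from ⟨hgc', hgc⟩), two_mul]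
  haveI : IsPretransitive G (Sylow 2 G) := inferInstance
  have hup := mul_card_derangement_le (X := Sylow 2 G) (2 * (C.q + 1)) W hW
  have hsum : ∑ g : G, W g ≤ 2 * (C.q + 1) * (n - 1) +
      n * (n - 1) * (2 * (α - 1) + (C.q + 1) * ((C.q - 1 - 1) * α)) := by
    simp only [W]
    rw [Finset.sum_add_distrib, Finset.sum_comm, Finset.sum_ite_eq' Finset.univ (1 : G)]
    simp only [Finset.mem_univ, if_true]
    refine Nat.add_le_add_left ?_ _
    have hp : ∀ p : P, ∑ g : G, wt p g = 2 * (α - 1) + (C.q + 1) * ((C.q - 1 - 1) * α) := by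
      intro p
      have hne : p.1.1.1 ≠ p.1.2.1 := fun h => p.2 (Subtype.ext h)
      have e : ∀ g : G, wt p g = (if g ∈ EP p.1.1.1 p.1.2.1 ∧ g ≠ 1 then 2 else 0) +
          (if g ∈ DP p.1.1.1 p.1.2.1 ∧ g ∉ EP p.1.1.1 p.1.2.1 then C.q + 1 else 0) := by
        intro g
        simp only [wt]
        by_cases h1 : g ∈ EP p.1.1.1 p.1.2.1 <;> by_cases h2 : g = 1 <;>
          by_cases h3 : g ∈ DP p.1.1.1 p.1.2.1 <;> simp [h1, h2, h3]
      rw [Finset.sum_congr rfl (fun g _ => e g), Finset.sum_add_distrib, ← Finset.sum_filter,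
        ← Finset.sum_filter, Finset.sum_const, Finset.sum_const, smul_eq_mul, smul_eq_mul,
        ← Fintype.card_subtype, ← Fintype.card_subtype, ← Nat.card_eq_fintype_card,
        ← Nat.card_eq_fintype_card, mul_comm 2, mul_comm (C.q + 1)]
      congr 1
      · congr 1
        rw [show α = Nat.card (EP p.1.1.1 p.1.2.1) from C.card_EP_eq hab hne,
          ← card_ne (1 : EP p.1.1.1 p.1.2.1)]
        exact Nat.card_congr ⟨fun g => ⟨⟨g.1, g.2.1⟩, fun h => g.2.2 (congrArg Subtype.val h)⟩,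
          fun g => ⟨g.1.1, g.1.2, fun h => g.2 (Subtype.ext h)⟩, fun _ => rfl, fun _ => rfl⟩
      · congr 1
        haveI := Fintype.ofFinite (DP p.1.1.1 p.1.2.1)
        rw [show α = Nat.card (EP p.1.1.1 p.1.2.1) from C.card_EP_eq hab hne, Nat.sub_mul, one_mul,
          ← C.card_DP hne]
        rw [Nat.card_congr (⟨fun g => ⟨⟨g.1, g.2.1⟩, g.2.2⟩, fun g => ⟨g.1.1, g.1.2, g.2⟩,
          fun _ => rfl, fun _ => rfl⟩ :
          {g : G // g ∈ DP p.1.1.1 p.1.2.1 ∧ g ∉ EP p.1.1.1 p.1.2.1} ≃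
          {g : DP p.1.1.1 p.1.2.1 // (g : G) ∉ EP p.1.1.1 p.1.2.1})]
        rw [Nat.card_eq_fintype_card, Fintype.card_subtype_compl, ← Nat.card_eq_fintype_card,
          ← Nat.card_eq_fintype_card]
        congr 1
        exact Nat.card_congr ⟨fun g => ⟨g.1.1, g.2⟩, fun g => ⟨⟨g.1, C.EP_le_DP _ _ g.2⟩, g.2⟩,
          fun _ => rfl, fun _ => rfl⟩
    rw [Finset.sum_congr rfl (fun p _ => hp p), Finset.sum_const, Finset.card_univ, smul_eq_mul,
      ← Nat.card_eq_fintype_card, C.card_offdiag, Nat.card_congr (Equiv.Set.univ _)]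
  have hmain := (hup.trans hsum)
  rw [hY] at hder
  -- combine
  have h1 : n * (n - 1) * ((C.q - 1) * C.q) * α ≤
      2 * (C.q + 1) * Nat.card {g : G // ∀ z : Sylow 2 G, g • z ≠ z} := by
    calc n * (n - 1) * ((C.q - 1) * C.q) * α ≤ 2 * Nat.card Good * α :=
          Nat.mul_le_mul_right _ hgood
      _ ≤ 2 * ((C.q + 1) * Nat.card R) * α := by gcongr
      _ = 2 * (C.q + 1) * (Nat.card R * α) := by ring
      _ ≤ _ := by gcongr
  have h2 := h1.trans hmain
  have hn1 : 1 < n := Finite.one_lt_card_iff_nontrivial.2 ⟨a, b, hab⟩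
  obtain ⟨m, hm⟩ : ∃ m, C.q = m + 2 := ⟨C.q - 2, by have := C.q_pos; omega⟩
  obtain ⟨β, hβ⟩ : ∃ β, α = β + 1 := ⟨α - 1, by omega⟩
  obtain ⟨N, hN⟩ : ∃ N, n = N + 2 := ⟨n - 2, by omega⟩
  rw [hm, hβ, hN] at h2
  simp only [show m + 2 - 1 = m + 1 from rfl, show m + 1 - 1 = m from rfl,
    show β + 1 - 1 = β from rfl, show N + 2 - 1 = N + 1 from rfl] at h2
  rw [hN, hm]
  have h3 : (N + 1) * (N + 2) ≤ (N + 1) * (m + 3) := by nlinarith [h2]
  exact Nat.le_of_mul_le_mul_left h3 (Nat.succ_pos _)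

/-- In a simple group the centraliser of a Sylow 2-subgroup is the subgroup itself. -/
theorem Ctx.centralizer_eq_self [IsSimpleGroup G] (c : Sylow 2 G) : CS c = (c : Subgroup G) := by
  classical
  obtain ⟨d, hcd⟩ : ∃ d : Sylow 2 G, c ≠ d := by
    obtain ⟨a, b, hab⟩ := C.two
    rcases eq_or_ne c a with h | h
    · exact ⟨b, h ▸ hab⟩
    · exact ⟨a, h⟩
  obtain ⟨hφ, hU, -⟩ := C.block hcd
  have hsurj : Function.Surjective (Subtype.val : Blk c d → Sylow 2 G) :=
    ((Subtype.val_injective).bijective_of_nat_card_le (by rw [hφ]; exact C.card_sylow_le)).2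
  have hall : ∀ z : Sylow 2 G, EP c d ≤ NS z := fun z => by
    obtain ⟨x, rfl⟩ := hsurj z
    exact x.2
  set K := (MulAction.toPermHom G (Sylow 2 G)).ker with hK
  have hK1 : K = ⊥ := by
    rcases (MonoidHom.normal_ker (MulAction.toPermHom G (Sylow 2 G))).eq_bot_or_eq_top with h | h
    · exact h
    · exfalso
      obtain ⟨g, hg⟩ := MulAction.exists_smul_eq G c d
      have hgK : g ∈ K := by rw [hK, h]; exact Subgroup.mem_top g
      have h' := Equiv.congr_fun (MonoidHom.mem_ker.1 hgK) c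
      exact hcd (h'.symm.trans hg)
  have hE : EP c d = ⊥ := by
    rw [eq_bot_iff, ← hK1]
    intro x hx
    rw [hK, MonoidHom.mem_ker]
    ext z : 1
    exact smul_eq_iff.2 (hall z hx)
  have hMP : MP c d = ⊤ := by
    refine eq_top_iff.2 fun g _ => mem_normalizer_iff.2 fun x => ?_
    rw [hE]
    simp only [Subgroup.mem_bot]
    exact conj_eq_one_iff.symm
  rw [hMP, top_inf_eq, hE, Subgroup.card_bot, mul_one] at hU
  exact (Subgroup.eq_of_le_of_card_ge (C.le_CS c) (by rw [hU, C.hcard c])).symm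

end Cfsg.Agent.ConjAll
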