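import Cfsg.Agent.ConjAll.Setup
import Cfsg.Agent.S4025
import Cfsg.Agent.S0205
import Cfsg.Agent.SubConj.Semiaffine

/-!
Groups with conjugate subgroups of equal order and elementary abelian Sylow 2-subgroups: the
normaliser of a Sylow 2-subgroup contains the centralisers of its involutions.
-/

set_option autoImplicit false
set_option linter.style.haveILetI false
set_option linter.unusedSectionVars false

namespace Cfsg.Agent.ConjAll

open Subgroup

variable {G : Type*} [Group G] [Finite G]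

/-- All Sylow 2-subgroups have exponent at most 2. -/
def ExpTwo (G : Type*) [Group G] : Prop := ∀ R : Sylow 2 G, ∀ x ∈ R, x * x = 1

theorem expTwo_of_one (S : Sylow 2 G) (h : ∀ x ∈ (S : Subgroup G), x ^ 2 = 1) : ExpTwo G := by
  haveI : Fact (Nat.Prime 2) := ⟨Nat.prime_two⟩
  intro R x hx
  obtain ⟨g, rfl⟩ := MulAction.exists_smul_eq G S R
  change x ∈ ((g • S : Sylow 2 G) : Subgroup G) at hx
  rw [Sylow.coe_subgroup_smul, Subgroup.mem_smul_pointwise_iff_exists] at hx
  obtain ⟨y, hy, rfl⟩ := hx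
  rw [MulAut.smul_def, ← map_mul, ← pow_two, h y hy, map_one]

variable (hC : IsConjAll G) (hel : ExpTwo G)
include hel

theorem ExpTwo.comm {R : Sylow 2 G} {x y : G} (hx : x ∈ R) (hy : y ∈ R) : x * y = y * x := by
  have h := hel R _ (mul_mem hx hy)
  rw [← inv_eq_of_mul_eq_one_left h, mul_inv_rev, inv_eq_of_mul_eq_one_left (hel R x hx),
    inv_eq_of_mul_eq_one_left (hel R y hy)]

theorem ExpTwo.le_cent (R : Sylow 2 G) :
    (R : Subgroup G) ≤ centralizer ((R : Subgroup G) : Set G) :=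
  fun _ hx => mem_centralizer_iff.2 fun _ hy => ExpTwo.comm hel hy hx

theorem ExpTwo.order_two {R : Sylow 2 G} {t : G} (ht : t ∈ R) (h1 : t ≠ 1) : orderOf t = 2 :=
  orderOf_eq_prime (by rw [pow_two]; exact hel R t ht) h1

include hC

/-- The centraliser of an involution normalises its Sylow 2-subgroup. -/
theorem ExpTwo.cent_le_norm {R : Sylow 2 G} {t : G} (ht : t ∈ R) (h1 : t ≠ 1) :
    centralizer ({t} : Set G) ≤ normalizer ((R : Subgroup G) : Set G) := by
  classical
  haveI : Fact (Nat.Prime 2) := ⟨Nat.prime_two⟩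
  set X := centralizer ({t} : Set G) with hX
  have hto := ExpTwo.order_two hel ht h1
  have hRX : (R : Subgroup G) ≤ X := fun s hs =>
    mem_centralizer_singleton_iff.2 (ExpTwo.comm hel hs ht)
  have hcore : ∀ s, ∀ hs : s ∈ R, (⟨s, hRX hs⟩ : X) ∈ Cfsg.pCore 2 X := by
    intro s hs
    rcases eq_or_ne s 1 with rfl | hs1
    · exact one_mem _
    by_contra hnot
    have hso : orderOf (⟨s, hRX hs⟩ : X) = 2 := by
      rw [← Subgroup.orderOf_coe]; exact ExpTwo.order_two hel hs hs1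
    obtain ⟨h, hh1, hodd, hinv⟩ := Invol.exists_inverted_odd (⟨s, hRX hs⟩ : X) hso
      (fun M hM hMp hmem => hnot (PSolv.le_pCore hM hMp hmem))
    obtain ⟨p, hp, hpd⟩ := Nat.exists_prime_and_dvd
      (show orderOf h ≠ 1 from fun e => hh1 (orderOf_eq_one_iff.1 e))
    have hp2 : p ≠ 2 := by
      rintro rfl; exact Nat.not_even_iff_odd.2 hodd (even_iff_two_dvd.2 hpd)
    have ho : orderOf ((h ^ (orderOf h / p) : X) : G) = p := by
      rw [Subgroup.orderOf_coe]; exact orderOf_pow_orderOf_div (orderOf_pos h).ne' hpd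
    have hinv' : (s : G) * (h : G) * s⁻¹ = (h : G)⁻¹ := congrArg Subtype.val hinv
    refine hC.no_invert hp hp2 hto (hpd.trans ?_) (ExpTwo.order_two hel hs hs1) ho ?_
    · rw [← Subgroup.orderOf_coe]; exact Subgroup.orderOf_dvd_natCard _ h.2
    · push_cast
      rw [← conj_pow, hinv', inv_pow]
  set P0 := (Cfsg.pCore 2 X).map X.subtype with hP0
  have heq : P0 = (R : Subgroup G) :=
    R.is_maximal' ((PSolv.isPGroup_pCore 2 X).map _) fun s hs => ⟨⟨s, hRX hs⟩, hcore s hs, rfl⟩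
  haveI hn : (Cfsg.pCore 2 X).Normal := inferInstance
  intro g hg
  rw [mem_normalizer_iff]
  intro h
  rw [← heq]
  constructor
  · rintro ⟨y, hy, rfl⟩
    exact ⟨⟨g, hg⟩ * y * ⟨g, hg⟩⁻¹, hn.conj_mem y hy _, rfl⟩
  · rintro ⟨y, hy, e⟩
    refine ⟨⟨g, hg⟩⁻¹ * y * ⟨g, hg⟩⁻¹⁻¹, hn.conj_mem y hy _, ?_⟩
    change g⁻¹ * (y : G) * g⁻¹⁻¹ = h
    change (y : G) = g * h * g⁻¹ at e
    rw [e]; group

theorem ExpTwo.sylow_unique {R R' : Sylow 2 G} {t : G} (ht : t ∈ R) (ht' : t ∈ R') (h1 : t ≠ 1) :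
    R = R' := by
  haveI : Fact (Nat.Prime 2) := ⟨Nat.prime_two⟩
  have hle : (R' : Subgroup G) ≤ normalizer ((R : Subgroup G) : Set G) := fun x hx =>
    ExpTwo.cent_le_norm hC hel ht h1 (mem_centralizer_singleton_iff.2 (ExpTwo.comm hel hx ht'))
  have h := R'.2.inf_normalizer_sylow R
  have h' : (R' : Subgroup G) = (R' : Subgroup G) ⊓ (R : Subgroup G) :=
    (inf_eq_left.2 hle).symm.trans h
  exact Sylow.ext (R'.is_maximal' R.2 (inf_eq_left.1 h'.symm))

theorem ExpTwo.smul_eq {R : Sylow 2 G} {g s t : G} (hs : s ∈ R) (ht : t ∈ R) (h1 : t ≠ 1)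
    (h : g * s * g⁻¹ = t) : g ∈ normalizer ((R : Subgroup G) : Set G) := by
  refine Sylow.smul_eq_iff_mem_normalizer.1 ?_
  refine ExpTwo.sylow_unique hC hel (t := t) ?_ ht h1
  show t ∈ ((g • R : Sylow 2 G) : Subgroup G)
  rw [Sylow.coe_subgroup_smul, Subgroup.mem_smul_pointwise_iff_exists]
  exact ⟨s, hs, by rw [MulAut.smul_def, MulAut.conj_apply, h]⟩

theorem ExpTwo.exists_norm {R : Sylow 2 G} {s t : G} (hs : s ∈ R) (hs1 : s ≠ 1) (ht : t ∈ R)
    (ht1 : t ≠ 1) : ∃ g ∈ normalizer ((R : Subgroup G) : Set G), g * s * g⁻¹ = t := by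
  obtain ⟨g, hg⟩ := hC.conj_invol (ExpTwo.order_two hel hs hs1) (ExpTwo.order_two hel ht ht1)
  exact ⟨g, ExpTwo.smul_eq hC hel hs ht ht1 hg, hg⟩

/-- The orbit of an involution under the normaliser of its Sylow 2-subgroup. -/
theorem ExpTwo.card_norm {R : Sylow 2 G} {t : G} (ht : t ∈ R) (h1 : t ≠ 1) :
    Nat.card (normalizer ((R : Subgroup G) : Set G)) =
      (Nat.card R - 1) * Nat.card (centralizer ({t} : Set G)) := by
  classical
  set N := normalizer ((R : Subgroup G) : Set G) with hN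
  let f : N → {x : (R : Subgroup G) // x ≠ 1} := fun g =>
    ⟨⟨(g : G) * t * (g : G)⁻¹, (mem_normalizer_iff.1 g.2 t).1 ht⟩,
      fun h => h1 (conj_eq_one_iff.1 (congrArg Subtype.val h))⟩
  have hfib : ∀ x, Nat.card {g // f g = x} = Nat.card (centralizer ({t} : Set G)) := by
    intro x
    obtain ⟨g0, hg0, hg0t⟩ := ExpTwo.exists_norm hC hel ht h1 x.1.2
      (fun h => x.2 (Subtype.ext h))
    have hCN := ExpTwo.cent_le_norm hC hel ht h1
    have h2 : ∀ g : {g // f g = x}, g0⁻¹ * (g.1 : G) ∈ centralizer ({t} : Set G) := by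
      intro g
      have h3 : (g.1 : G) * t * (g.1 : G)⁻¹ = x.1 :=
        congrArg (fun z => ((z.1 : (R : Subgroup G)) : G)) g.2
      refine mem_centralizer_singleton_iff.2 (mul_inv_eq_iff_eq_mul.1 ?_)
      rw [mul_inv_rev, inv_inv]
      calc g0⁻¹ * (g.1 : G) * t * ((g.1 : G)⁻¹ * g0)
          = g0⁻¹ * ((g.1 : G) * t * (g.1 : G)⁻¹) * g0 := by group
        _ = t := by rw [h3, ← hg0t]; group
    refine Nat.card_congr
      { toFun := fun g => ⟨_, h2 g⟩
        invFun := fun c => ⟨⟨g0 * c, mul_mem hg0 (hCN c.2)⟩, Subtype.ext (Subtype.ext (by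
          show g0 * (c : G) * t * (g0 * (c : G))⁻¹ = x.1
          rw [← hg0t, mul_assoc g0 (c : G) t, mem_centralizer_singleton_iff.1 c.2]
          group))⟩
        left_inv := fun g => Subtype.ext (Subtype.ext (mul_inv_cancel_left _ _))
        right_inv := fun c => Subtype.ext (inv_mul_cancel_left _ _) }
  haveI := Fintype.ofFinite {x : (R : Subgroup G) // x ≠ 1}
  have hne : Nat.card {x : (R : Subgroup G) // x ≠ 1} = Nat.card R - 1 := by
    haveI := Fintype.ofFinite (R : Subgroup G)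
    rw [Nat.card_eq_fintype_card, Nat.card_eq_fintype_card, Fintype.card_subtype_compl,
      Fintype.card_subtype_eq]
  rw [← Nat.card_congr (Equiv.sigmaFiberEquiv f), Nat.card_sigma, ← hne]
  simp only [hfib, Finset.sum_const, Finset.card_univ, smul_eq_mul, Nat.card_eq_fintype_card]

omit hC in
theorem ExpTwo.centralizer_normal_subgroupOf (R : Sylow 2 G) :
    ((centralizer ((R : Subgroup G) : Set G)).subgroupOf
      (normalizer ((R : Subgroup G) : Set G))).Normal := by
  refine ⟨fun x hx g => ?_⟩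
  rw [mem_subgroupOf] at hx ⊢
  refine mem_centralizer_iff.2 fun h hh => ?_
  have h1 : (g : G)⁻¹ * h * g ∈ (R : Subgroup G) := (mem_normalizer_iff''.1 g.2 h).1 hh
  have h2 := mem_centralizer_iff.1 hx _ h1
  push_cast
  calc h * ((g : G) * x * (g : G)⁻¹) = g * (((g : G)⁻¹ * h * g) * x) * (g : G)⁻¹ := by group
    _ = g * (x * ((g : G)⁻¹ * h * g)) * (g : G)⁻¹ := by rw [h2]
    _ = g * x * (g : G)⁻¹ * h := by group

omit hC in
theorem ExpTwo.card_cent_eq (R : Sylow 2 G) :
    Nat.card (centralizer ((R : Subgroup G) : Set G)) = Nat.card R *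
      Nat.card (Cfsg.oddCore ↥(normalizer ((R : Subgroup G) : Set G))) := by
  haveI : Fact (Nat.Prime 2) := ⟨Nat.prime_two⟩
  set N := normalizer ((R : Subgroup G) : Set G) with hN
  set O := Cfsg.oddCore N
  have hCN : centralizer ((R : Subgroup G) : Set G) ≤ N := centralizer_le_normalizer _
  set M := (centralizer ((R : Subgroup G) : Set G)).subgroupOf N with hM
  haveI : M.Normal := ExpTwo.centralizer_normal_subgroupOf hel R
  have hRN : (R : Subgroup G) ≤ N := le_normalizer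
  set R1 := (R : Subgroup G).subgroupOf N with hR1
  haveI hR1n : R1.Normal := normal_in_normalizer
  have hR1M : R1 ≤ M := fun x hx => ExpTwo.le_cent hel R hx
  have hR1c : Nat.card R1 = Nat.card R := Nat.card_congr (subgroupOfEquivOfLe hRN).toEquiv
  have hO : (Nat.card O).Coprime 2 := PSolv.coprime_card_pPrimeCore 2 N
  have hcop : (Nat.card R1).Coprime (Nat.card O) := by
    obtain ⟨k, hk⟩ := IsPGroup.iff_card.1 R.2
    rw [hR1c, hk]
    exact Nat.Coprime.pow_left k hO.symm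
  have hOM : O ≤ M := by
    intro o ho
    refine mem_centralizer_iff.2 fun s hs => ?_
    have hdis : Disjoint R1 O := disjoint_iff.2 (eq_bot_iff.2 fun y hy =>
      Subgroup.mem_bot.2 (orderOf_eq_one_iff.1 (Nat.Coprime.eq_one_of_dvd
        (hcop.coprime_dvd_left (Subgroup.orderOf_dvd_natCard _ hy.1))
        (Subgroup.orderOf_dvd_natCard _ hy.2))))
    haveI : O.Normal := inferInstance
    exact (congrArg Subtype.val
      ((Subgroup.commute_of_normal_of_disjoint R1 O hR1n inferInstance hdis ⟨s, hRN hs⟩ o hs ho).eq)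
      :)
  rw [← Nat.card_congr (subgroupOfEquivOfLe hCN).toEquiv, ← hM, ← hR1c]
  refine Nat.dvd_antisymm ?_
    (hcop.mul_dvd_of_dvd_of_dvd (Subgroup.card_dvd_of_le hR1M) (Subgroup.card_dvd_of_le hOM))
  have hRM : (R : Subgroup G) ≤ centralizer ((R : Subgroup G) : Set G) := ExpTwo.le_cent hel R
  have hp : IsPGroup 2 (R1.subgroupOf M) :=
    (R.2.of_equiv (subgroupOfEquivOfLe hRN).symm).of_equiv (subgroupOfEquivOfLe hR1M).symm
  obtain ⟨P, hP⟩ := hp.exists_le_sylow
  have hPle : (P : Subgroup M) ≤ center M := by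
    intro x hx
    have hxR : ((x : N) : G) ∈ (R : Subgroup G) := by
      have h3 : ((x : N) : G) ∈ (((P : Subgroup M).map M.subtype).map N.subtype) :=
        ⟨(x : N), ⟨x, hx, rfl⟩, rfl⟩
      have h4 := R.is_maximal' (((P.2).map M.subtype).map N.subtype)
        (fun y hy => ⟨⟨y, hRN hy⟩, ⟨⟨⟨y, hRN hy⟩, hR1M hy⟩, hP hy, rfl⟩, rfl⟩)
      rwa [h4] at h3
    exact mem_center_iff.2 fun y => Subtype.ext (Subtype.ext
      (mem_centralizer_iff.1 y.2 _ hxR).symm)
  have hPc : Nat.card (P : Subgroup M) = Nat.card R1 := by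
    have h4 := R.is_maximal' (((P.2).map M.subtype).map N.subtype)
        (fun y hy => ⟨⟨y, hRN hy⟩, ⟨⟨⟨y, hRN hy⟩, hR1M hy⟩, hP hy, rfl⟩, rfl⟩)
    rw [hR1c, ← h4, Subgroup.card_map_of_injective N.subtype_injective,
      Subgroup.card_map_of_injective M.subtype_injective]
  have h5 := card_dvd_of_transfer M P (fun _ _ => mem_centralizer_iff.2 fun _ hy =>
    (mem_center_iff.1 (hPle hy) _).symm)
  rwa [hPc, mul_comm] at h5

/-- The data coming from the structure of the normaliser for rank at least 3. -/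
theorem ExpTwo.rank_data (S : Sylow 2 G) {k : ℕ} (hk : Nat.card S = 2 ^ k) (h3 : 3 ≤ k) :
    ∃ c : ℕ, Nat.card (normalizer ((S : Subgroup G) : Set G)) =
        c * Nat.card (centralizer ((S : Subgroup G) : Set G)) ∧
      ((k = 3 ∧ (c = 7 ∨ c = 21)) ∨ (k = 5 ∧ c = 155)) ∧
      ((S : Subgroup G).Normal → Cfsg.oddCore G = ⊥ →
        Nonempty (G ≃* Cfsg.affineGroup (GaloisField 2 3)) ∨
        Nonempty (G ≃* Cfsg.semiaffineGroup (GaloisField 2 3)) ∨
        Nonempty (G ≃* Cfsg.semiaffineGroup (GaloisField 2 5))) := by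
  haveI : Fact (Nat.Prime 2) := ⟨Nat.prime_two⟩
  set N := normalizer ((S : Subgroup G) : Set G) with hN
  set O := Cfsg.oddCore N
  haveI : O.Normal := inferInstance
  have hel' : Cfsg.IsElementaryAbelian 2 (S : Subgroup G) :=
    ⟨⟨⟨fun a b => Subtype.ext (ExpTwo.comm hel a.2 b.2)⟩⟩,
      fun a ha => by rw [pow_two]; exact hel S a ha⟩
  haveI hS1n : ((S : Subgroup G).subgroupOf N).Normal := normal_in_normalizer
  haveI h1 : Group.IsSolvable ↥((S : Subgroup G).subgroupOf N) :=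
    Group.isSolvable_of_comm fun a b =>
      Subtype.ext (Subtype.ext (ExpTwo.comm hel (R := S) a.2 b.2))
  haveI h2 : Group.IsSolvable (↥N ⧸ (S : Subgroup G).subgroupOf N) := by
    refine Cfsg.Agent.S0205.result ?_
    rw [← Subgroup.index, ← Nat.not_even_iff_odd, even_iff_two_dvd]
    exact fun h => S.not_dvd_index (h.trans (Subgroup.relIndex_dvd_index_of_le le_normalizer))
  haveI h3' : Group.IsSolvable N :=
    Group.isSolvable_of_ker_le_range ((S : Subgroup G).subgroupOf N).subtype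
      (QuotientGroup.mk' ((S : Subgroup G).subgroupOf N))
      (by rw [QuotientGroup.ker_mk', Subgroup.range_subtype])
  have hres := Cfsg.Agent.S4025.result (p := 2)
    (fun H K _ _ h => hC H K h) S k h3 hel' hk N hN inferInstance
  have hcS := ExpTwo.card_cent_eq hel S
  have hcN : Nat.card N = Nat.card (↥N ⧸ O) * Nat.card O :=
    Subgroup.card_eq_card_quotient_mul_card_subgroup O
  have key : ∀ c : ℕ, Nat.card (↥N ⧸ O) = c * Nat.card S →
      Nat.card N = c * Nat.card (centralizer ((S : Subgroup G) : Set G)) := fun c hc => by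
    rw [hcN, hc, hcS, mul_assoc]
  have top : (S : Subgroup G).Normal → Cfsg.oddCore G = ⊥ →
      Nonempty (G ≃* ↥N ⧸ O) := fun hSn hOG => by
    have hNtop : N = ⊤ := by rw [hN]; exact normalizer_eq_top_iff.2 hSn
    let e : ↥N ≃* G := (MulEquiv.subgroupCongr hNtop).trans Subgroup.topEquiv
    have hObot : O = ⊥ := by
      rw [eq_bot_iff]
      intro x hx
      have h4 : e x ∈ (Cfsg.pPrimeCore 2 G) :=
        PSolv.map_pPrimeCore_le e.toMonoidHom e.surjective ⟨x, hx, rfl⟩
      rw [show Cfsg.pPrimeCore 2 G = ⊥ from hOG, Subgroup.mem_bot] at h4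
      exact Subgroup.mem_bot.2 (e.injective (h4.trans (map_one e).symm))
    exact ⟨e.symm.trans (QuotientGroup.quotientBot.symm.trans
      (QuotientGroup.quotientMulEquivOfEq hObot.symm))⟩
  rcases hres with ⟨rfl, -, h⟩ | ⟨rfl, -, ⟨e⟩⟩
  · rcases h rfl with ⟨⟨e⟩⟩ | ⟨⟨e⟩⟩
    · refine ⟨21, key 21 ?_, Or.inl ⟨rfl, Or.inr rfl⟩, fun hSn hOG => ?_⟩
      · rw [Nat.card_congr e.toEquiv, SubConj.card_semiaffine 2 3 (by norm_num), hk]
        norm_num
      · obtain ⟨e'⟩ := top hSn hOG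
        exact Or.inr (Or.inl ⟨e'.trans e⟩)
    · refine ⟨7, key 7 ?_, Or.inl ⟨rfl, Or.inl rfl⟩, fun hSn hOG => ?_⟩
      · rw [Nat.card_congr e.toEquiv, SubConj.card_affine 2 3 (by norm_num), hk]
        norm_num
      · obtain ⟨e'⟩ := top hSn hOG
        exact Or.inl ⟨e'.trans e⟩
  · refine ⟨155, key 155 ?_, Or.inr ⟨rfl, rfl⟩, fun hSn hOG => ?_⟩
    · rw [Nat.card_congr e.toEquiv, SubConj.card_semiaffine 2 5 (by norm_num), hk]
      norm_num
    · obtain ⟨e'⟩ := top hSn hOG
      exact Or.inr (Or.inr ⟨e'.trans e⟩)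

end Cfsg.Agent.ConjAll
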