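import Cfsg.Agent.ConjAll.SimplePart
import Cfsg.Agent.S0813
import Cfsg.Agent.Linear.SmallIso
import Cfsg.Agent.Linear.PermIso

/-!
Groups with conjugate subgroups of equal order, trivial odd core and elementary abelian Sylow
2-subgroups.
-/

set_option autoImplicit false
set_option linter.style.haveILetI false
set_option linter.unusedSectionVars false

namespace Cfsg.Agent.ConjAll

open Subgroup

variable {G : Type*} [Group G] [Finite G] (hC : IsConjAll G) (hel : ExpTwo G)
  (hO : Cfsg.oddCore G = ⊥)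
include hC hel hO

theorem four_normal (S : Sylow 2 G) (hS : Nat.card S = 4) (hn : (S : Subgroup G).Normal) :
    Nat.card G = 12 ∧ Nonempty (G ≃* alternatingGroup (Fin 4)) := by
  classical
  haveI : Fact (Nat.Prime 2) := ⟨Nat.prime_two⟩
  haveI : Fact (Nat.Prime 3) := ⟨Nat.prime_three⟩
  haveI := hn
  obtain ⟨⟨t, htS⟩, ht1'⟩ : ∃ t : (S : Subgroup G), t ≠ 1 := by
    haveI : Nontrivial (S : Subgroup G) := Finite.one_lt_card_iff_nontrivial.1 (by omega)
    exact exists_ne 1
  have ht1 : t ≠ 1 := fun h => ht1' (Subtype.ext h)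
  have hsub : ∀ M : Subgroup G, IsPGroup 2 M → M ≤ (S : Subgroup G) := by
    intro M hM
    obtain ⟨Q, hQ⟩ := hM.exists_le_sylow
    haveI := Sylow.unique_of_normal S hn
    rwa [Subsingleton.elim Q S] at hQ
  -- self-centralisation
  set M := centralizer ((S : Subgroup G) : Set G) with hM
  haveI hMn : M.Normal := Subgroup.normal_centralizer
  have hSM : (S : Subgroup G) ≤ M := ExpTwo.le_cent hel S
  have hMS : M ≤ (S : Subgroup G) := by
    refine hsub M ?_
    obtain ⟨P, hP⟩ := (S.2.of_equiv (subgroupOfEquivOfLe hSM).symm).exists_le_sylow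
    have hPS : (P : Subgroup M) ≤ center M := by
      intro x hx
      have hxS : (x : G) ∈ (S : Subgroup G) := hsub _ (P.2.map M.subtype) ⟨x, hx, rfl⟩
      exact mem_center_iff.2 fun y => Subtype.ext (mem_centralizer_iff.1 y.2 _ hxS).symm
    have htop := isPGroup_two_of_central hO M P hPS
    have h2 := P.2
    rw [htop] at h2
    exact h2.of_equiv Subgroup.topEquiv
  have hN : normalizer ((S : Subgroup G) : Set G) = ⊤ := normalizer_eq_top_iff.2 hn
  have hCt : centralizer ({t} : Set G) ≤ (S : Subgroup G) := by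
    intro f hf
    have hf2 : f ^ 2 ∈ M := by
      refine mem_centralizer_iff.2 fun s hs => ?_
      have hcj : ∀ x ∈ (S : Subgroup G), f * x * f⁻¹ ∈ (S : Subgroup G) :=
        fun x hx => hn.conj_mem x hx f
      have hft : f * t * f⁻¹ = t := mul_inv_eq_iff_eq_mul.2 (mem_centralizer_singleton_iff.1 hf)
      suffices h : f * (f * s * f⁻¹) * f⁻¹ = s by
        calc s * f ^ 2 = (f * (f * s * f⁻¹) * f⁻¹) * f ^ 2 := by rw [h]
          _ = f ^ 2 * s := by rw [pow_two]; group
      by_cases hs1 : f * s * f⁻¹ = s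
      · rw [hs1, hs1]
      by_contra hb
      have hst : s ≠ t := fun h => hs1 (by rw [h]; exact hft)
      have hs0 : s ≠ 1 := fun h => hs1 (by rw [h]; group)
      set a := f * s * f⁻¹ with ha
      have haS : a ∈ (S : Subgroup G) := hcj s hs
      have hinj : ∀ x y : G, f * x * f⁻¹ = f * y * f⁻¹ → x = y := fun x y h =>
        (MulAut.conj f).injective h
      have ha1 : a ≠ 1 := fun h => hs0 (conj_eq_one_iff.1 h)
      have hat : a ≠ t := fun h => hst (hinj _ _ (h.trans hft.symm))
      set b := f * a * f⁻¹ with hb'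
      have hba : b ≠ a := fun h => hs1 (hinj _ _ h)
      have hb1 : b ≠ 1 := fun h => ha1 (conj_eq_one_iff.1 h)
      have hbt : b ≠ t := fun h => hat (hinj _ _ (h.trans hft.symm))
      have hsub : ({1, t, s, a, b} : Finset G) ⊆ ((S : Subgroup G) : Set G).toFinite.toFinset := by
        intro x hx
        simp only [Finset.mem_insert, Finset.mem_singleton] at hx
        rw [Set.Finite.mem_toFinset]
        rcases hx with rfl | rfl | rfl | rfl | rfl
        · exact one_mem (S : Subgroup G)
        · exact htS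
        · exact hs
        · exact haS
        · exact hcj a haS
      have h5 := Finset.card_le_card hsub
      rw [← Set.ncard_eq_toFinset_card _, ← Nat.card_coe_set_eq,
        show Nat.card ((S : Subgroup G) : Set G) = 4 from hS] at h5
      rw [Finset.card_insert_of_notMem, Finset.card_insert_of_notMem,
        Finset.card_insert_of_notMem, Finset.card_insert_of_notMem, Finset.card_singleton] at h5
      · omega
      · simp only [Finset.mem_singleton]; exact Ne.symm hba
      · simp only [Finset.mem_insert, Finset.mem_singleton, not_or]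
        exact ⟨Ne.symm hs1, Ne.symm hb⟩
      · simp only [Finset.mem_insert, Finset.mem_singleton, not_or]
        exact ⟨Ne.symm hst, Ne.symm hat, Ne.symm hbt⟩
      · simp only [Finset.mem_insert, Finset.mem_singleton, not_or]
        exact ⟨Ne.symm ht1, Ne.symm hs0, Ne.symm ha1, Ne.symm hb1⟩
    refine hsub (zpowers f) ?_ (mem_zpowers f)
    have h4 : f ^ 2 ^ 2 = 1 := by
      rw [show (2 : ℕ) ^ 2 = 2 * 2 from rfl, pow_mul, pow_two (f ^ 2)]
      exact hel S _ (hMS hf2)
    intro g
    obtain ⟨i, hi⟩ := mem_zpowers_iff.1 g.2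
    refine ⟨2, Subtype.ext ?_⟩
    push_cast
    rw [← hi, ← zpow_natCast, ← zpow_mul, mul_comm, zpow_mul, zpow_natCast]
    norm_num at h4 ⊢
    rw [h4, one_zpow]
  have hG : Nat.card G = 12 := by
    have h := ExpTwo.card_norm hC hel htS ht1
    rw [hN, Subgroup.card_top, hS] at h
    have hle : (S : Subgroup G) ≤ centralizer ({t} : Set G) := fun x hx =>
      mem_centralizer_singleton_iff.2 (ExpTwo.comm hel hx htS)
    rw [le_antisymm hCt hle] at h
    omega
  refine ⟨hG, ?_⟩
  obtain ⟨P⟩ : Nonempty (Sylow 3 G) := inferInstance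
  have hP : Nat.card (P : Subgroup G) = 3 := by
    rw [P.card_eq_multiplicity, hG, Nat.factorization_def _ Nat.prime_three]
    have : padicValNat 3 (3 * 4) = 1 := by
      rw [padicValNat.mul (by norm_num) (by norm_num), padicValNat.self (by norm_num),
        padicValNat.eq_zero_of_not_dvd (by norm_num)]
    rw [show (12 : ℕ) = 3 * 4 from rfl, this, pow_one]
  have hidx : (P : Subgroup G).index = 4 := by
    have := Subgroup.card_mul_index (P : Subgroup G)
    rw [hP, hG] at this
    omega
  set φ := MulAction.toPermHom G (G ⧸ (P : Subgroup G)) with hφ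
  have hinj : Function.Injective φ := by
    rw [← MonoidHom.ker_eq_bot_iff, hφ, ← Subgroup.normalCore_eq_ker, eq_bot_iff]
    refine hO ▸ PSolv.le_pPrimeCore (Subgroup.normalCore_normal _) ?_
    have hd := Subgroup.card_dvd_of_le (Subgroup.normalCore_le (P : Subgroup G))
    rw [hP] at hd
    exact (show Nat.Coprime 3 2 by norm_num).coprime_dvd_left hd
  obtain ⟨e⟩ : Nonempty (G ⧸ (P : Subgroup G) ≃ Fin 4) := ⟨(Finite.equivFin _).trans
    (finCongr (by rw [← Subgroup.index, hidx]))⟩
  set ψ : G →* Equiv.Perm (Fin 4) := e.permCongrHom.toMonoidHom.comp φ with hψ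
  have hψi : Function.Injective ψ := e.permCongrHom.injective.comp hinj
  have hr : ψ.range.index = 2 := by
    have := Subgroup.card_mul_index ψ.range
    rw [← Nat.card_congr (MonoidHom.ofInjective hψi).toEquiv, hG, Nat.card_perm,
      Nat.card_eq_fintype_card, Fintype.card_fin, show Nat.factorial 4 = 24 from rfl] at this
    omega
  exact ⟨(MonoidHom.ofInjective hψi).trans
    (MulEquiv.subgroupCongr (Equiv.Perm.eq_alternatingGroup_of_index_eq_two hr))⟩

theorem four_case (S : Sylow 2 G) (hS : Nat.card S = 4) :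
    ((S : Subgroup G).Normal ∧ Nat.card G = 12 ∧ Nonempty (G ≃* alternatingGroup (Fin 4))) ∨
      Nonempty (G ≃* alternatingGroup (Fin 5)) := by
  by_cases hn : (S : Subgroup G).Normal
  · exact Or.inl ⟨hn, four_normal hC hel hO S hS hn⟩
  · obtain ⟨N, hNn, hNs, hall, hcent, hindex, -⟩ := exists_socle hC hel hO S (by omega) hn
    haveI := hNn
    haveI := hNs
    exact Or.inr (rank_two_simple hC hel S hS N hall hcent hindex)

/-- The outcome for rank at least three. -/
theorem large_case (S : Sylow 2 G) {k : ℕ} (hk : Nat.card S = 2 ^ k) (h3 : 3 ≤ k) :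
    Nonempty (G ≃* Cfsg.affineGroup (GaloisField 2 3)) ∨
    Nonempty (G ≃* Cfsg.semiaffineGroup (GaloisField 2 3)) ∨
    Nonempty (G ≃* Cfsg.semiaffineGroup (GaloisField 2 5)) ∨
    Nonempty (G ≃* Matrix.ProjectiveSpecialLinearGroup (Fin 2) (GaloisField 2 3)) ∨
    Nonempty (G ≃* MulAut (Matrix.ProjectiveSpecialLinearGroup (Fin 2) (GaloisField 2 5))) := by
  classical
  haveI : Fact (Nat.Prime 2) := ⟨Nat.prime_two⟩
  haveI : Fact (Nat.Prime 3) := ⟨Nat.prime_three⟩
  obtain ⟨c, hc, hcases, hsolv⟩ := ExpTwo.rank_data hC hel S hk h3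
  by_cases hn : (S : Subgroup G).Normal
  · rcases hsolv hn hO with h | h | h
    · exact Or.inl h
    · exact Or.inr (Or.inl h)
    · exact Or.inr (Or.inr (Or.inl h))
  have hS1 : 1 < Nat.card S := by
    rw [hk]; exact Nat.one_lt_pow (by omega) (by norm_num)
  obtain ⟨N, hNn, hNs, hall, hcent, hindex, hder⟩ := exists_socle hC hel hO S hS1 hn
  haveI := hNn
  haveI := hNs
  have hq : Nat.card S = 8 ∨ Nat.card S = 32 := by
    rcases hcases with ⟨rfl, -⟩ | ⟨rfl, -⟩
    · exact Or.inl hk
    · exact Or.inr hk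
  obtain ⟨F, _, _, hF, ⟨e⟩, hcentN⟩ := socle_psl hC hel S hq hn N hall hindex hder
  have hFk : Fintype.card F = 2 ^ k := hF.trans hk
  obtain ⟨i⟩ : Nonempty (Matrix.ProjectiveSpecialLinearGroup (Fin 2) F ≃*
      Matrix.ProjectiveSpecialLinearGroup (Fin 2) (GaloisField 2 k)) := by
    haveI := Fintype.ofFinite (GaloisField 2 k)
    refine Linear.psl_congr (FiniteField.ringEquivOfCardEq (K := F) (K' := GaloisField 2 k) ?_) _
    rw [hFk, ← Nat.card_eq_fintype_card, GaloisField.card 2 k (by omega)]
  have hAut : Nat.card (MulAut N) = k * Nat.card N := by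
    rw [Nat.card_congr (MulAut.congr e).toEquiv,
      Cfsg.Agent.S0813.result (F := F) 2 k (by omega) hFk 2 le_rfl (fun _ => by
        have : 2 ^ 2 ≤ 2 ^ k := Nat.pow_le_pow_right (by norm_num) (by omega)
        omega), if_pos rfl, one_mul, Linear.card_PGL_eq_card_SL, Linear.card_SL_two,
      Nat.card_congr e.toEquiv, Linear.card_PSL_two_of_even]
    rw [hFk, even_iff_two_dvd]
    exact dvd_pow_self 2 (by omega)
  set φ : G →* MulAut N := MulAut.conjNormal with hφdef
  have hinj : Function.Injective φ := by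
    rw [← MonoidHom.ker_eq_bot_iff, eq_bot_iff, ← hcent]
    intro g hg
    refine mem_centralizer_iff.2 fun x hx => ?_
    have h : φ g (⟨x, hx⟩ : N) = ⟨x, hx⟩ := by rw [MonoidHom.mem_ker.1 hg]; rfl
    have h' := congrArg Subtype.val h
    rw [hφdef, MulAut.conjNormal_apply] at h'
    exact (mul_inv_eq_iff_eq_mul.1 h').symm
  have hd : N.index ∣ k := by
    have h := Subgroup.card_dvd_of_injective φ hinj
    rw [hAut, ← Subgroup.card_mul_index N, mul_comm k] at h
    exact Nat.dvd_of_mul_dvd_mul_left Nat.card_pos h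
  have htopN : N.index = 1 → Nonempty (G ≃* N) := fun h =>
    ⟨Subgroup.topEquiv.symm.trans (MulEquiv.subgroupCongr (Subgroup.index_eq_one.1 h).symm)⟩
  rcases hcases with ⟨rfl, -⟩ | ⟨rfl, hc155⟩
  · rcases (Nat.dvd_prime Nat.prime_three).1 hd with h | h
    · obtain ⟨j⟩ := htopN h
      exact Or.inr (Or.inr (Or.inr (Or.inl ⟨(j.trans e).trans i⟩)))
    exfalso
    -- an element of order three in the socle and one outside centralising an involution
    have hP' : ∃ n ∈ normalizer ((S : Subgroup G) : Set G), n ∉ N := by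
      by_contra hcon
      push Not at hcon
      obtain ⟨g, hg⟩ : ∃ g, g ∉ N := by
        by_contra hh
        push Not at hh
        rw [Subgroup.index_eq_one.2 ((Subgroup.eq_top_iff' _).2 hh)] at h
        omega
      let S' : Sylow 2 N := S.subtype (hall S)
      let gS' : Sylow 2 N := (g • S).subtype (hall (g • S))
      obtain ⟨n, hn'⟩ := MulAction.exists_smul_eq N gS' S'
      have h' : ((n : G) * g) • S = S := by
        refine Sylow.ext ?_
        have := congrArg (fun P : Sylow 2 N => (P : Subgroup N).map N.subtype) hn'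
        simp only [S', gS', Sylow.coe_subgroup_smul, Sylow.coe_subtype] at this
        rw [mul_smul, Sylow.coe_subgroup_smul]
        rw [Subgroup.subgroupOf_map_subtype, inf_of_le_left (hall S)] at this
        rw [← this]
        ext x
        simp only [Subgroup.mem_map, Subgroup.mem_smul_pointwise_iff_exists, mem_subgroupOf]
        constructor
        · rintro ⟨y, hy, rfl⟩
          exact ⟨n * ⟨y, hall (g • S) hy⟩ * n⁻¹, ⟨⟨y, hall (g • S) hy⟩, hy, rfl⟩, rfl⟩
        · rintro ⟨_, ⟨y, hy, rfl⟩, rfl⟩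
          exact ⟨y, hy, rfl⟩
      refine hg ((Subgroup.mul_mem_cancel_left N n.2).1 (hcon _ ?_))
      exact Sylow.smul_eq_iff_mem_normalizer.1 h'
    obtain ⟨n, hn1, hn2⟩ := hP'
    obtain ⟨a, o, ho, hao⟩ := Nat.exists_eq_pow_mul_and_not_dvd (orderOf_pos n).ne' 3 (by norm_num)
    set f := n ^ o with hf
    have hfN : f ∉ N := fun hh => hn2 (by
      have h3 : n ^ 3 ∈ N := h ▸ Subgroup.pow_index_mem N n
      obtain ⟨u, v, huv⟩ : IsCoprime (3 : ℤ) (o : ℤ) := by
        exact_mod_cast (Nat.isCoprime_iff_coprime.2 (Nat.prime_three.coprime_iff_not_dvd.2 ho))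
      have : n = (n ^ 3) ^ u * (n ^ o) ^ v := by
        rw [← zpow_natCast, ← zpow_natCast, ← zpow_mul, ← zpow_mul, ← zpow_add,
          mul_comm _ u, mul_comm _ v]
        simp [huv]
      rw [this]
      exact mul_mem (zpow_mem h3 u) (zpow_mem hh v))
    have hfa : f ^ 3 ^ a = 1 := by rw [hf, ← pow_mul, mul_comm, ← hao, pow_orderOf_eq_one]
    have hfn : f ∈ normalizer ((S : Subgroup G) : Set G) := pow_mem hn1 o
    obtain ⟨hfix, -⟩ := ExpTwo.fixed_points hC hel (q := 8) (k := 3) (Or.inl ⟨rfl, rfl⟩) hk hfn hfa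
    obtain ⟨⟨t, ht⟩, ht1'⟩ : ∃ x : ↥((S : Subgroup G) ⊓ centralizer ({f} : Set G)), x ≠ 1 := by
      haveI := Finite.one_lt_card_iff_nontrivial.1 hfix
      exact exists_ne 1
    obtain ⟨htS, htf⟩ := mem_inf.1 ht
    have ht1 : t ≠ 1 := fun hh => ht1' (Subtype.ext hh)
    have hfc : f ∈ centralizer ({t} : Set G) :=
      mem_centralizer_singleton_iff.2 (mem_centralizer_singleton_iff.1 htf).symm
    have hf3 : f ^ 3 = 1 := by
      have hm := hcentN S t htS ht1 (mem_inf.2 ⟨pow_mem hfc 3, h ▸ Subgroup.pow_index_mem N f⟩)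
      have h2 : orderOf (f ^ 3) ∣ 2 := orderOf_dvd_of_pow_eq_one (by
        rw [pow_two]; exact hel S _ hm)
      have h3' : orderOf (f ^ 3) ∣ 3 ^ a := orderOf_dvd_of_pow_eq_one (by
        rw [← pow_mul, mul_comm, pow_mul, hfa, one_pow])
      exact orderOf_eq_one_iff.1 (Nat.Coprime.eq_one_of_dvd
        ((Nat.Coprime.pow_right a (show Nat.Coprime 2 3 by norm_num)).coprime_dvd_left h2) h3')
    have hfo : orderOf f = 3 := orderOf_eq_prime hf3 (fun hh => hfN (hh ▸ one_mem N))
    have h3N : 3 ∣ Nat.card N := by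
      rw [Nat.card_congr e.toEquiv, Linear.card_PSL_two_of_even (by rw [hFk]; decide), hFk]
      norm_num
    obtain ⟨x, hx⟩ := exists_prime_orderOf_dvd_card' 3 h3N
    obtain ⟨g, hg⟩ := hC.exists_zpowers (((Subgroup.orderOf_coe x).trans hx).trans hfo.symm)
    refine hfN ((Subgroup.zpowers_le.2 ?_) (hg ▸ mem_zpowers f))
    exact hNn.conj_mem _ x.2 g
  · rcases (Nat.dvd_prime (show Nat.Prime 5 by norm_num)).1 hd with h | h
    · exfalso
      have hNtop : N = ⊤ := Subgroup.index_eq_one.1 h
      obtain ⟨⟨t, ht⟩, ht1'⟩ : ∃ x : (S : Subgroup G), x ≠ 1 := by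
        haveI := Finite.one_lt_card_iff_nontrivial.1 hS1
        exact exists_ne 1
      have ht1 : t ≠ 1 := fun hh => ht1' (Subtype.ext hh)
      have hle := cent_le_socle hC hel ht ht1 hq hder
      rw [hNtop, inf_top_eq] at hle
      have hge : centralizer ((S : Subgroup G) : Set G) ≤ centralizer ({t} : Set G) := fun y hy =>
        mem_centralizer_singleton_iff.2 (mem_centralizer_iff.1 hy t ht).symm
      have hcn := ExpTwo.card_norm hC hel ht ht1
      rw [hc, hc155, hk, le_antisymm hle hge] at hcn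
      have hpos : 0 < Nat.card (centralizer ((S : Subgroup G) : Set G)) := Nat.card_pos
      rw [show (2 ^ 5 - 1 : ℕ) = 31 from rfl] at hcn
      have := Nat.eq_of_mul_eq_mul_right hpos hcn
      omega
    · have hbij : Function.Bijective φ := hinj.bijective_of_nat_card_le (by
        rw [hAut, ← Subgroup.card_mul_index N, h, mul_comm])
      exact Or.inr (Or.inr (Or.inr (Or.inr
        ⟨(MulEquiv.ofBijective φ hbij).trans (MulAut.congr (e.trans i))⟩)))

end Cfsg.Agent.ConjAll
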