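import Cfsg.Agent.ConjAll.Fibre
import Cfsg.Agent.Tech.FStarQuot
import Cfsg.Agent.PSolv.Cores
import Cfsg.Agent.S0205

/-!
Every element of odd order inverted by an involution in the centraliser of a derangement lies in
the torus of the block.
-/

set_option autoImplicit false
set_option linter.style.haveILetI false
set_option linter.unusedSectionVars false

namespace Cfsg.Agent.ConjAll

open Subgroup MulAction

/-- An element commuting with every prime power order power of `g` commutes with `g`. -/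
theorem commute_of_prime_powers {X : Type*} [Group X] [Finite X] {h g : X}
    (H : ∀ p k : ℕ, p.Prime → ∀ f ∈ zpowers g, f ^ p ^ k = 1 → Commute h f) : Commute h g := by
  set K : Subgroup X := zpowers g ⊓ centralizer ({h} : Set X)
  have hdvd : Nat.card (zpowers g) ∣ Nat.card K := by
    rw [Nat.card_zpowers]
    refine (Nat.dvd_iff_prime_pow_dvd_dvd _ _).2 fun p k hp hk => ?_
    have ho := orderOf_pow_orderOf_div (orderOf_pos g).ne' hk
    have hm : g ^ (orderOf g / p ^ k) ∈ zpowers g := npow_mem_zpowers g _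
    have hc : Commute h (g ^ (orderOf g / p ^ k)) :=
      H p k hp _ hm (by
        have h1 := pow_orderOf_eq_one (g ^ (orderOf g / p ^ k))
        rwa [ho] at h1)
    rw [← ho]
    exact Subgroup.orderOf_dvd_natCard K ⟨hm, mem_centralizer_singleton_iff.2 hc.eq.symm⟩
  have h2 : K = zpowers g :=
    Subgroup.eq_of_le_of_card_ge inf_le_left (Nat.le_of_dvd Nat.card_pos hdvd)
  have h3 : g ∈ K := h2 ▸ mem_zpowers g
  exact (mem_centralizer_singleton_iff.1 h3.2).symm

variable {G : Type*} [Group G] [Finite G] (C : Ctx G)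
include C

variable {t w : G} {a b : Sylow 2 G}

/-- Elements of a torus commute. -/
theorem Ctx.BlkData.torus_commute (d : BlkData t w a b) {g h : G}
    (hg : g ∈ Cfsg.invertedBy (XB w a b) t) (hh : h ∈ Cfsg.invertedBy (XB w a b) t) :
    Commute g h := by
  have ht := d.inv.1
  have hodd := Ctx.BlkData.odd_XB C d
  obtain ⟨e, heX, hte, z, hz, hgh⟩ := RankOne.inverted_factor ht hodd (Ctx.BlkData.stable C d)
    (mul_mem hg.1 hh.1)
  have he : e ∈ EP a b := by
    rw [← Ctx.BlkData.inf_t C d]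
    exact ⟨heX, mem_centralizer_singleton_iff.2 hte.symm⟩
  have hcz := Ctx.BlkData.commute_E C d hz he
  have hcg := Ctx.BlkData.commute_E C d hg he
  have hch := Ctx.BlkData.commute_E C d hh he
  have h1 : g⁻¹ * h⁻¹ = e * z⁻¹ := by
    have : t * (g * h) * t⁻¹ = t * (e * z) * t⁻¹ := by rw [hgh]
    rwa [show t * (g * h) * t⁻¹ = (t * g * t⁻¹) * (t * h * t⁻¹) by group,
      show t * (e * z) * t⁻¹ = (t * e * t⁻¹) * (t * z * t⁻¹) by group, hg.2, hh.2, hz.2,
      show t * e * t⁻¹ = e by rw [hte, mul_inv_cancel_right]] at this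
  have h2 : g * h = e ^ 2 * (h * g) := by
    have h3 : h * g = e⁻¹ * z := by
      have := congrArg (·⁻¹) h1
      rw [mul_inv_rev, mul_inv_rev, inv_inv, inv_inv, inv_inv] at this
      rw [this, hcz.inv_right.eq]
    rw [h3, hgh, pow_two]; group
  have hconj : ∀ n : ℕ, g ^ n * h * (g ^ n)⁻¹ = e ^ (2 * n) * h := by
    intro n
    induction n with
    | zero => simp
    | succ n ih =>
      have h4 : g * h * g⁻¹ = e ^ 2 * h := by rw [h2]; group
      have h5 : g * e ^ (2 * n) * g⁻¹ = e ^ (2 * n) := by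
        rw [(hcg.pow_right _).eq, mul_inv_cancel_right]
      calc g ^ (n + 1) * h * (g ^ (n + 1))⁻¹
          = g * (g ^ n * h * (g ^ n)⁻¹) * g⁻¹ := by rw [pow_succ']; group
        _ = (g * e ^ (2 * n) * g⁻¹) * (g * h * g⁻¹) := by rw [ih]; group
        _ = e ^ (2 * (n + 1)) * h := by
          rw [h5, h4, ← mul_assoc, ← pow_add]; rfl
  have h6 := hconj (orderOf g)
  rw [pow_orderOf_eq_one, one_mul, inv_one, mul_one, right_eq_mul] at h6
  have hog : Odd (orderOf g) := hodd.of_dvd_nat (Subgroup.orderOf_dvd_natCard _ hg.1)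
  have hcop : (orderOf e).Coprime (2 * orderOf g) := by
    refine Nat.Coprime.mul_right ?_ ?_
    · exact (hodd.of_dvd_nat (Subgroup.orderOf_dvd_natCard _ heX)).coprime_two_right
    · exact ((C.coprime_of_inverts (c := a) (orderOf_eq_prime (by rw [pow_two]; exact ht) d.inv.2.1)
        hog hg.2).coprime_dvd_right (Subgroup.orderOf_dvd_natCard _ he.1)).symm
  have he1 : e = 1 := orderOf_eq_one_iff.1
    (Nat.Coprime.eq_one_of_dvd hcop (orderOf_dvd_of_pow_eq_one h6))
  rw [he1, one_pow, one_mul] at h2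
  exact h2

/-- The torus as a subgroup. -/
theorem Ctx.BlkData.exists_torus (d : BlkData t w a b) :
    ∃ T : Subgroup G, (T : Set G) = Cfsg.invertedBy (XB w a b) t := by
  refine ⟨{ carrier := Cfsg.invertedBy (XB w a b) t
            one_mem' := ⟨one_mem _, by simp⟩
            mul_mem' := fun {g h} hg hh => ⟨mul_mem hg.1 hh.1, by
              rw [show t * (g * h) * t⁻¹ = (t * g * t⁻¹) * (t * h * t⁻¹) by group, hg.2, hh.2,
                ← mul_inv_rev, (Ctx.BlkData.torus_commute C d hg hh).eq]⟩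
            inv_mem' := fun {g} hg => ⟨inv_mem hg.1, by
              rw [show t * g⁻¹ * t⁻¹ = (t * g * t⁻¹)⁻¹ by group, hg.2]⟩ }, rfl⟩

theorem Ctx.Inverts.prime_not_dvd {t w : G} (hi : Inverts t w) (c : Sylow 2 G) {p : ℕ}
    (hp : p.Prime) (hpq : p ∣ C.q + 1) : ¬ p ∣ Nat.card (CS c) := by
  intro hdvd
  obtain ⟨a, b, d, hb⟩ := C.exists_blkData hi
  obtain ⟨T, hT⟩ := Ctx.BlkData.exists_torus C d
  have hcard : Nat.card T = C.q + 1 := by
    rw [← Ctx.BlkData.card_torus C d hb, ← hT]; rfl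
  haveI : Fact p.Prime := ⟨hp⟩
  obtain ⟨y, hy⟩ := exists_prime_orderOf_dvd_card' p (hcard ▸ hpq : p ∣ Nat.card T)
  replace hy : orderOf (y : G) = p := (Subgroup.orderOf_coe y).trans hy
  have hp2 : p ≠ 2 := by
    rintro rfl
    rcases C.hq with h | h <;> rw [h] at hpq <;> norm_num at hpq
  have hmem : (y : G) ∈ Cfsg.invertedBy (XB w a b) t := hT ▸ y.2
  exact C.hNI p hp hp2 c hdvd t y (orderOf_eq_prime (by rw [pow_two]; exact hi.1) hi.2.1) hy hmem.2

/-- An element of the centraliser of a derangement inverted by `t` is again a derangement. -/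
theorem Ctx.Inverts.der {t w h : G} (hi : Inverts t w) (hh : h ∈ centralizer ({w} : Set G))
    (hinv : t * h * t⁻¹ = h⁻¹) (h1 : h ≠ 1) : Inverts t h := by
  refine ⟨hi.1, hi.2.1, fun z hz => ?_, hinv⟩
  obtain ⟨c, hc⟩ := C.exists_centre hi.1
  have hv := sq_one_of_inverts hi.1 hinv
  obtain ⟨c', hc'⟩ := C.exists_centre hv
  have ho : Odd (orderOf h) :=
    (C.odd_centralizer_der hi.2.2.1).of_dvd_nat (Subgroup.orderOf_dvd_natCard _ hh)
  have hne : c ≠ c' := fun e => h1 (by
    have hm : h ∈ c := by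
      have := mul_mem hc (e ▸ hc' : t * h ∈ c)
      rwa [← mul_assoc, hi.1, one_mul] at this
    refine orderOf_eq_one_iff.1 (Nat.Coprime.eq_one_of_dvd ?_ (orderOf_dvd_of_pow_eq_one
      (show h ^ 2 = 1 by rw [pow_two]; exact C.hel c h hm)))
    exact ho.coprime_two_right)
  have hv1 : t * h ≠ 1 := fun e => by
    rw [show h = t⁻¹ from eq_inv_of_mul_eq_one_right e, orderOf_inv,
      orderOf_eq_prime (by rw [pow_two]; exact hi.1) hi.2.1] at ho
    exact absurd ho (by decide)
  obtain ⟨hzz, hvz, -, hord⟩ := C.pair_fix hne hc hc' hi.2.1 hv1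
    (z := z) (by rw [← mul_assoc, hi.1, one_mul]; exact hz)
  rw [← mul_assoc, hi.1, one_mul] at hord
  have hz' : h • (t • z) = t • z := by
    have e : h * t = t * h⁻¹ := by
      rw [← hinv, ← mul_assoc, ← mul_assoc, hi.1, one_mul, conj_sq_self hi.1]
    rw [smul_smul, e, mul_smul, inv_smul_eq_iff.2 hz.symm]
  have hw := C.centralizer_m_le hord hzz (smul_eq_iff.1 hz) (smul_eq_iff.1 hz')
    (mem_centralizer_singleton_iff.2 (mem_centralizer_singleton_iff.1 hh).symm : w ∈ _)
  exact hi.2.2.1 z (smul_eq_iff.2 hw.1)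

theorem Ctx.Inverts.pow_q_succ {t w h : G} (hi : Inverts t w)
    (hh : h ∈ centralizer ({w} : Set G)) (hinv : t * h * t⁻¹ = h⁻¹) : h ^ (C.q + 1) = 1 := by
  rcases eq_or_ne h 1 with rfl | h1
  · exact one_pow _
  have hi' := Ctx.Inverts.der C hi hh hinv h1
  obtain ⟨a, b, d, hb⟩ := C.exists_blkData hi'
  obtain ⟨T, hT⟩ := Ctx.BlkData.exists_torus C d
  have hm : h ∈ T := by
    rw [← SetLike.mem_coe, hT]
    refine ⟨⟨mem_centralizer_singleton_iff.2 rfl, ?_⟩, hinv⟩
    have : t * (t * h) ∈ MP a b := mul_mem (Ctx.BlkData.t_mem C d) (C.sylow_le_MP inf_le_right hb)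
    rwa [← mul_assoc, hi.1, one_mul] at this
  have hcard : Nat.card T = C.q + 1 := by
    rw [← Ctx.BlkData.card_torus C d hb, ← hT]; rfl
  rw [← hcard]
  exact RankOne.pow_card_mem hm

/-- An inverted element centralises the Fitting subgroup of the centraliser. -/
theorem Ctx.Inverts.commute_fitting {t w h : G} (hi : Inverts t w)
    (hh : h ∈ centralizer ({w} : Set G)) (hinv : t * h * t⁻¹ = h⁻¹)
    {f : centralizer ({w} : Set G)}
    (hf : f ∈ Cfsg.fittingSubgroup ↥(centralizer ({w} : Set G))) : Commute h (f : G) := by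
  have hodd := C.odd_centralizer_der hi.2.2.1
  suffices H : Commute (⟨h, hh⟩ : centralizer ({w} : Set G)) f from congrArg Subtype.val H
  refine commute_of_prime_powers fun p k hp g hg hgk => ?_
  haveI : Fact p.Prime := ⟨hp⟩
  have hgF : g ∈ Cfsg.fittingSubgroup (centralizer ({w} : Set G)) := (Subgroup.zpowers_le.2 hf) hg
  have hgV := Tech.mem_pCore_of_mem_fitting hgF hgk
  rcases eq_or_ne g 1 with rfl | hg1
  · exact Commute.one_right _
  have hp2 : p ≠ 2 := by
    rintro rfl
    refine hg1 (orderOf_eq_one_iff.1 (Nat.Coprime.eq_one_of_dvd ?_ (orderOf_dvd_of_pow_eq_one hgk)))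
    exact Nat.Coprime.pow_right k (hodd.of_dvd_nat (orderOf_dvd_natCard g)).coprime_two_right
  set V : Subgroup G := (Cfsg.pCore p (centralizer ({w} : Set G))).map (centralizer ({w} : Set G)).subtype with hV
  have hVp : IsPGroup p V := (PSolv.isPGroup_pCore _ _).map _
  have hVX : V ≤ centralizer ({w} : Set G) := Subgroup.map_subtype_le _
  haveI hVn : (Cfsg.pCore p (centralizer ({w} : Set G))).Normal := inferInstance
  have hVh : ∀ y ∈ V, h * y * h⁻¹ ∈ V := by
    rintro _ ⟨y, hy, rfl⟩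
    exact ⟨⟨h, hh⟩ * y * ⟨h, hh⟩⁻¹, hVn.conj_mem y hy _, rfl⟩
  have hVt : ∀ y ∈ V, t * y * t ∈ V := by
    let φ : centralizer ({w} : Set G) →* centralizer ({w} : Set G) :=
      { toFun := fun y => ⟨t * y * t⁻¹, conj_mem_centralizer hi.2.2.2 y.2⟩
        map_one' := Subtype.ext (by simp)
        map_mul' := fun y z => Subtype.ext (by simp [mul_assoc]) }
    have hφ : Function.Surjective φ := fun y => ⟨φ y, Subtype.ext (by
      show t * (t * (y : G) * t⁻¹) * t⁻¹ = y
      rw [conj_sq_self hi.1]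
      exact RankOne.conj_conj_self hi.1 _)⟩
    rintro _ ⟨y, hy, rfl⟩
    refine ⟨φ y, PSolv.map_pCore_le φ hφ ⟨y, hy, rfl⟩, ?_⟩
    show t * (y : G) * t⁻¹ = t * (y : G) * t
    rw [conj_sq_self hi.1]
  have hab := C.hab p hp hp2 V hVp
  have hVodd : Odd (Nat.card V) := hodd.of_dvd_nat (Subgroup.card_dvd_of_le hVX)
  obtain ⟨a, b, d, hb⟩ := C.exists_blkData hi
  -- `t` acts as a scalar
  have hscal : (∀ y ∈ V, t * y * t⁻¹ = y) ∨ (∀ y ∈ V, t * y * t⁻¹ = y⁻¹) := by
    by_cases hpq : p ∣ C.q + 1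
    · right
      intro y hy
      obtain ⟨e, he, hte, z, hz, rfl⟩ := RankOne.inverted_factor hi.1 hVodd hVt hy
      have he' : e ∈ EP a b := d.he ▸ ⟨hVX he, mem_centralizer_singleton_iff.2 hte.symm⟩
      obtain ⟨j, hj⟩ := hVp ⟨e, he⟩
      have he1 : e = 1 := by
        refine orderOf_eq_one_iff.1 (Nat.Coprime.eq_one_of_dvd ?_
          (orderOf_dvd_of_pow_eq_one (congrArg Subtype.val hj : e ^ p ^ j = 1)))
        refine Nat.Coprime.pow_right j ((hp.coprime_iff_not_dvd.2 fun hpe => ?_).symm)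
        exact Ctx.Inverts.prime_not_dvd C hi a hp hpq
          (hpe.trans (Subgroup.orderOf_dvd_natCard _ he'.1))
      rw [he1, one_mul]
      exact hz.2
    · left
      intro y hy
      obtain ⟨e, he, hte, z, hz, rfl⟩ := RankOne.inverted_factor hi.1 hVodd hVt hy
      obtain ⟨j, hj⟩ := hVp ⟨z, hz.1⟩
      have hz1 : z = 1 := by
        refine orderOf_eq_one_iff.1 (Nat.Coprime.eq_one_of_dvd ?_
          (orderOf_dvd_of_pow_eq_one (congrArg Subtype.val hj : z ^ p ^ j = 1)))
        refine Nat.Coprime.pow_right j ((hp.coprime_iff_not_dvd.2 fun hpe => hpq ?_).symm)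
        exact hpe.trans (orderOf_dvd_of_pow_eq_one (Ctx.Inverts.pow_q_succ C hi (hVX hz.1) hz.2))
      rw [hz1, mul_one, hte, mul_inv_cancel_right]
  have hy : (g : G) ∈ V := ⟨g, hgV, rfl⟩
  have hkey : h⁻¹ * (g : G) * h = h * g * h⁻¹ := by
    have h3 := hVh _ hy
    have e : t * (h * (g : G) * h⁻¹) * t⁻¹ = h⁻¹ * (t * g * t⁻¹) * h := by
      calc t * (h * (g : G) * h⁻¹) * t⁻¹
          = (t * h * t⁻¹) * (t * g * t⁻¹) * (t * h * t⁻¹)⁻¹ := by group
        _ = h⁻¹ * (t * g * t⁻¹) * h := by rw [hinv, inv_inv]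
    rcases hscal with hs | hs
    · rw [hs _ h3, hs _ hy] at e
      exact e.symm
    · rw [hs _ h3, hs _ hy] at e
      have := congrArg (·⁻¹) e
      simp only [mul_inv_rev, inv_inv] at this
      simpa [mul_assoc] using this.symm
  have hc2 : Commute (h ^ 2) (g : G) := by
    show h ^ 2 * g = g * h ^ 2
    rw [pow_two]
    calc h * h * (g : G) = h * (h * g * h⁻¹) * h := by group
      _ = h * (h⁻¹ * g * h) * h := by rw [hkey]
      _ = g * (h * h) := by group
  have := commute_of_commute_sq (hodd.of_dvd_nat (Subgroup.orderOf_dvd_natCard _ hh)) hc2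
  exact Subtype.ext this.eq

/-- Inverted elements of the centraliser of a derangement commute. -/
theorem Ctx.Inverts.commute {t w g h : G} (hi : Inverts t w)
    (hg : g ∈ centralizer ({w} : Set G)) (hginv : t * g * t⁻¹ = g⁻¹)
    (hh : h ∈ centralizer ({w} : Set G)) (hinv : t * h * t⁻¹ = h⁻¹) : Commute g h := by
  haveI : Group.IsSolvable ↥(centralizer ({w} : Set G)) :=
    Cfsg.Agent.S0205.result (C.odd_centralizer_der hi.2.2.1)
  have hF : (⟨h, hh⟩ : centralizer ({w} : Set G)) ∈ Cfsg.fittingSubgroup _ :=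
    Cores.centralizer_fittingSubgroup_le (mem_centralizer_iff.2 fun f hf =>
      (Subtype.ext (Ctx.Inverts.commute_fitting C hi hh hinv hf).eq).symm)
  exact Ctx.Inverts.commute_fitting C hi hg hginv hF

end Cfsg.Agent.ConjAll
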