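import Cfsg.Agent.ConjAll.Socle

/-!
Transfer: inside the socle the centraliser of an involution centralises its Sylow 2-subgroup.
-/

set_option autoImplicit false
set_option linter.style.haveILetI false
set_option linter.unusedSectionVars false

namespace Cfsg.Agent.ConjAll

open Subgroup
open scoped commutatorElement

variable {G : Type*} [Group G] [Finite G] (hC : IsConjAll G) (hel : ExpTwo G)
include hC

/-- For odd `p` the `p`-subgroups are abelian. -/
theorem IsConjAll.odd_comm {p : ℕ} (hp : p.Prime) (hp2 : p ≠ 2) {P : Subgroup G}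
    (hP : IsPGroup p P) : ∀ x ∈ P, ∀ y ∈ P, x * y = y * x := by
  haveI : Fact p.Prime := ⟨hp⟩
  obtain ⟨Q, hQ⟩ := hP.exists_le_sylow
  intro x hx y hy
  rcases Cfsg.Agent.S4020.result hC.pGroups Q with h | ⟨h, -⟩ | ⟨⟨e⟩⟩
  · obtain ⟨g, hg⟩ := h.exists_generator
    obtain ⟨a, ha⟩ := mem_zpowers_iff.1 (hg ⟨x, hQ hx⟩)
    obtain ⟨b, hb⟩ := mem_zpowers_iff.1 (hg ⟨y, hQ hy⟩)
    have e := congrArg Subtype.val ((Commute.refl g).zpow_zpow a b)
    rw [ha, hb] at e
    exact e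
  · exact congrArg Subtype.val (h.is_comm.comm ⟨x, hQ hx⟩ ⟨y, hQ hy⟩)
  · exfalso
    have hc : Nat.card (Q : Subgroup G) = 8 := by
      rw [Nat.card_congr e.toEquiv, Nat.card_eq_fintype_card, QuaternionGroup.card]
    obtain ⟨k, hk⟩ := IsPGroup.iff_card.1 Q.2
    have h2 : 2 ∣ p ^ k := by rw [← hk, hc]; norm_num
    exact hp2 ((Nat.prime_dvd_prime_iff_eq Nat.prime_two hp).1 (Nat.prime_two.dvd_of_dvd_pow h2)).symm

theorem IsConjAll.cyclic_of_order_sq {p : ℕ} (hp : p.Prime) (hp2 : p ≠ 2) {g : G}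
    (hg : orderOf g = p ^ 2) (P : Sylow p G) : IsCyclic (P : Subgroup G) := by
  haveI : Fact p.Prime := ⟨hp⟩
  rcases Cfsg.Agent.S4020.result hC.pGroups P with h | ⟨-, h⟩ | ⟨⟨e⟩⟩
  · exact h
  · exfalso
    obtain ⟨Q, hQ⟩ := (IsPGroup.of_card (n := 2) (by rw [Nat.card_zpowers, hg]) :
      IsPGroup p (zpowers g)).exists_le_sylow
    obtain ⟨h', rfl⟩ := MulAction.exists_smul_eq G P Q
    have hm := hQ (mem_zpowers g)
    rw [Sylow.coe_subgroup_smul, Subgroup.mem_smul_pointwise_iff_exists] at hm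
    obtain ⟨y, hy, rfl⟩ := hm
    have h1 : (MulAut.conj h' • y) ^ p = 1 := by rw [MulAut.smul_def, ← map_pow, h y hy, map_one]
    have h2 := orderOf_dvd_of_pow_eq_one h1
    rw [hg] at h2
    have := Nat.le_of_dvd hp.pos h2
    nlinarith [hp.one_lt]
  · exfalso
    have hc : Nat.card (P : Subgroup G) = 8 := by
      rw [Nat.card_congr e.toEquiv, Nat.card_eq_fintype_card, QuaternionGroup.card]
    obtain ⟨k, hk⟩ := IsPGroup.iff_card.1 P.2
    have h2 : 2 ∣ p ^ k := by rw [← hk, hc]; norm_num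
    exact hp2 ((Nat.prime_dvd_prime_iff_eq Nat.prime_two hp).1 (Nat.prime_two.dvd_of_dvd_pow h2)).symm

include hel

/-- A `k`-element of the normaliser of `R` fixes a non-identity element of `R`, and only one if it
does not centralise `R`. -/
theorem ExpTwo.fixed_points {R : Sylow 2 G} {q k : ℕ}
    (hqk : (q = 8 ∧ k = 3) ∨ (q = 32 ∧ k = 5)) (hR : Nat.card R = q) {f : G}
    (hf : f ∈ normalizer ((R : Subgroup G) : Set G)) {j : ℕ} (hfk : f ^ k ^ j = 1) :
    1 < Nat.card ↥((R : Subgroup G) ⊓ centralizer ({f} : Set G)) ∧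
      (f ∈ centralizer ((R : Subgroup G) : Set G) ∨
        Nat.card ↥((R : Subgroup G) ⊓ centralizer ({f} : Set G)) = 2) := by
  haveI : Fact k.Prime := ⟨by rcases hqk with ⟨-, rfl⟩ | ⟨-, rfl⟩ <;> norm_num⟩
  let act : MulAction (zpowers f) (R : Subgroup G) :=
    { smul := fun g x => ⟨(g : G) * x * (g : G)⁻¹,
        (mem_normalizer_iff.1 ((Subgroup.zpowers_le.2 hf) g.2) x).1 x.2⟩
      one_smul := fun x => Subtype.ext (by show (1 : G) * x * (1 : G)⁻¹ = x; group)
      mul_smul := fun g h x => Subtype.ext (by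
        show ((g : G) * h) * x * ((g : G) * h)⁻¹ = g * (h * x * (h : G)⁻¹) * (g : G)⁻¹
        group) }
  have hp : IsPGroup k (zpowers f) := by
    intro g
    obtain ⟨i, hi⟩ := mem_zpowers_iff.1 g.2
    refine ⟨j, Subtype.ext ?_⟩
    push_cast
    rw [← hi, ← zpow_natCast, ← zpow_mul, mul_comm, zpow_mul, zpow_natCast, hfk, one_zpow]
  have hmod := hp.card_modEq_card_fixedPoints (α := (R : Subgroup G))
  have e : Nat.card (MulAction.fixedPoints (zpowers f) (R : Subgroup G)) =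
      Nat.card ↥((R : Subgroup G) ⊓ centralizer ({f} : Set G)) := by
    refine Nat.card_congr
      { toFun := fun x => ⟨(x.1 : G), x.1.2, mem_centralizer_singleton_iff.2 ?_⟩
        invFun := fun x => ⟨⟨x, x.2.1⟩, ?_⟩
        left_inv := fun x => rfl
        right_inv := fun x => rfl }
    · have h := congrArg Subtype.val (x.2 ⟨f, mem_zpowers f⟩)
      exact (mul_inv_eq_iff_eq_mul.1 h).symm
    · rintro ⟨g, hg⟩
      obtain ⟨i, rfl⟩ := mem_zpowers_iff.1 hg
      refine Subtype.ext ?_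
      show f ^ i * (x : G) * (f ^ i)⁻¹ = x
      have hc : Commute (x : G) f := mem_centralizer_singleton_iff.1 x.2.2
      rw [← (hc.zpow_right i).eq, mul_inv_cancel_right]
  rw [e, hR] at hmod
  set W := (R : Subgroup G) ⊓ centralizer ({f} : Set G) with hW
  have hd : Nat.card W ∣ q := hR ▸ Subgroup.card_dvd_of_le inf_le_left
  have hfull : Nat.card W = q → f ∈ centralizer ((R : Subgroup G) : Set G) := fun h => by
    have heq : W = (R : Subgroup G) := Subgroup.eq_of_le_of_card_ge inf_le_left (by rw [h, hR])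
    refine mem_centralizer_iff.2 fun x hx => ?_
    exact mem_centralizer_singleton_iff.1 (inf_eq_left.1 heq hx)
  rcases hqk with ⟨rfl, rfl⟩ | ⟨rfl, rfl⟩
  · obtain ⟨i, hi, hWi⟩ := (Nat.dvd_prime_pow Nat.prime_two).1 (hd.trans (dvd_of_eq
      (show (8 : ℕ) = 2 ^ 3 by norm_num)))
    rw [hWi] at hmod hfull ⊢
    interval_cases i
    · exact absurd hmod (by decide)
    · exact ⟨by norm_num, Or.inr rfl⟩
    · exact absurd hmod (by decide)
    · exact ⟨by norm_num, Or.inl (hfull rfl)⟩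
  · obtain ⟨i, hi, hWi⟩ := (Nat.dvd_prime_pow Nat.prime_two).1 (hd.trans (dvd_of_eq
      (show (32 : ℕ) = 2 ^ 5 by norm_num)))
    rw [hWi] at hmod hfull ⊢
    interval_cases i
    · exact absurd hmod (by decide)
    · exact ⟨by norm_num, Or.inr rfl⟩
    · exact absurd hmod (by decide)
    · exact absurd hmod (by decide)
    · exact absurd hmod (by decide)
    · exact ⟨by norm_num, Or.inl (hfull rfl)⟩

/-- The transfer argument: elements of the derived subgroup centralising an involution centralise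
its Sylow 2-subgroup, if `C(t)/C(R)` has prime order. -/
theorem ExpTwo.derived_cent_le {R : Sylow 2 G} {t : G} (ht : t ∈ R) (h1 : t ≠ 1) {q k : ℕ}
    (hqk : (q = 8 ∧ k = 3) ∨ (q = 32 ∧ k = 5)) (hR : Nat.card R = q)
    (hcard : Nat.card (centralizer ({t} : Set G)) =
      k * Nat.card (centralizer ((R : Subgroup G) : Set G))) :
    centralizer ({t} : Set G) ⊓ commutator G ≤ centralizer ((R : Subgroup G) : Set G) := by
  have hk : k.Prime := by rcases hqk with ⟨-, rfl⟩ | ⟨-, rfl⟩ <;> norm_num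
  have hk2 : k ≠ 2 := by rcases hqk with ⟨-, rfl⟩ | ⟨-, rfl⟩ <;> norm_num
  haveI : Fact k.Prime := ⟨hk⟩
  haveI : Fact (Nat.Prime 2) := ⟨Nat.prime_two⟩
  set Ct := centralizer ({t} : Set G) with hCt
  set CR := centralizer ((R : Subgroup G) : Set G) with hCR
  have hto := ExpTwo.order_two hel ht h1
  have hkCt : k ∣ Nat.card Ct := ⟨_, hcard⟩
  have hRC : CR ≤ Ct := fun x hx =>
    mem_centralizer_singleton_iff.2 (mem_centralizer_iff.1 hx t ht).symm
  have hCN := ExpTwo.cent_le_norm hC hel ht h1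
  haveI hn : (CR.subgroupOf Ct).Normal := by
    refine ⟨fun x hx g => ?_⟩
    exact (ExpTwo.centralizer_normal_subgroupOf hel R).conj_mem ⟨(x : G), hCN x.2⟩ hx
      ⟨(g : G), hCN g.2⟩
  have hidx : (CR.subgroupOf Ct).index = k := by
    have h := Subgroup.card_mul_index (CR.subgroupOf Ct)
    rw [Nat.card_congr (subgroupOfEquivOfLe hRC).toEquiv, hcard, mul_comm] at h
    exact mul_right_cancel₀ Nat.card_pos.ne' h
  obtain ⟨P0⟩ : Nonempty (Sylow k Ct) := inferInstance
  set P1 : Subgroup G := (P0 : Subgroup Ct).map Ct.subtype with hP1def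
  have hP1p : IsPGroup k P1 := P0.2.map _
  have hP1Ct : P1 ≤ Ct := Subgroup.map_subtype_le _
  have hnot : ¬ P1 ≤ CR := by
    intro hle
    refine P0.not_dvd_index ?_
    have h2 : (P0 : Subgroup Ct) ≤ CR.subgroupOf Ct := fun x hx => hle ⟨x, hx, rfl⟩
    exact (dvd_of_eq hidx.symm).trans (Subgroup.index_dvd_of_le h2)
  obtain ⟨f, hfP, hfR⟩ := SetLike.not_le_iff_exists.1 hnot
  obtain ⟨j, hj⟩ := hP1p ⟨f, hfP⟩
  obtain ⟨-, hW⟩ := ExpTwo.fixed_points hC hel hqk hR (hCN (hP1Ct hfP))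
    (congrArg Subtype.val hj : f ^ k ^ j = 1)
  have hW2 := hW.resolve_left hfR
  set X := centralizer (P1 : Set G) with hX
  have htX : t ∈ X := mem_centralizer_iff.2 fun y hy => mem_centralizer_singleton_iff.1 (hP1Ct hy)
  -- the Sylow 2-subgroup of `X` has order two
  have htp : IsPGroup 2 (zpowers (⟨t, htX⟩ : X)) := IsPGroup.of_card (n := 1) (by
    rw [Nat.card_zpowers, pow_one, ← Subgroup.orderOf_coe]; exact hto)
  obtain ⟨Q, hQ⟩ := htp.exists_le_sylow
  have hQcard : Nat.card (Q : Subgroup X) = 2 := by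
    refine le_antisymm ?_ ?_
    · refine le_trans (le_of_eq (Subgroup.card_map_of_injective X.subtype_injective).symm) ?_
      refine le_trans (Nat.le_of_dvd Nat.card_pos (Subgroup.card_dvd_of_le ?_)) hW2.le
      obtain ⟨R', hR'⟩ := ((Q.2).map X.subtype).exists_le_sylow
      have heq : R' = R := ExpTwo.sylow_unique hC hel (hR' ⟨_, hQ (mem_zpowers _), rfl⟩) ht h1
      rintro _ ⟨x, hx, rfl⟩
      refine mem_inf.2 ⟨heq ▸ hR' ⟨x, hx, rfl⟩, mem_centralizer_singleton_iff.2 ?_⟩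
      exact (mem_centralizer_iff.1 x.2 f hfP).symm
    · refine Nat.le_of_dvd Nat.card_pos ?_
      exact (dvd_of_eq (((Subgroup.orderOf_mk t htX).trans hto).symm)).trans
        (Subgroup.orderOf_dvd_natCard _ (hQ (mem_zpowers _)))
  have hQeq : (Q : Subgroup X) = zpowers ⟨t, htX⟩ := (Subgroup.eq_of_le_of_card_ge hQ (by
    rw [hQcard, Nat.card_zpowers, ← Subgroup.orderOf_coe]; exact hto.ge)).symm
  -- involutions of `X` are conjugate to `t` in `X`
  have hconj : ∀ i : X, orderOf i = 2 → ∃ x : X, x * i * x⁻¹ = ⟨t, htX⟩ := by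
    intro i hi
    have hip : IsPGroup 2 (zpowers i) :=
      IsPGroup.of_card (n := 1) (by rw [Nat.card_zpowers, hi, pow_one])
    obtain ⟨Q', hQ'⟩ := hip.exists_le_sylow
    obtain ⟨x, hx⟩ := MulAction.exists_smul_eq X Q' Q
    refine ⟨x, ?_⟩
    have hm : x * i * x⁻¹ ∈ (Q : Subgroup X) := by
      rw [← hx, Sylow.coe_subgroup_smul, Subgroup.mem_smul_pointwise_iff_exists]
      exact ⟨i, hQ' (mem_zpowers i), rfl⟩
    rw [hQeq] at hm
    obtain ⟨z, hz⟩ := mem_zpowers_iff.1 hm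
    have ho : orderOf (⟨t, htX⟩ : X) = 2 := (Subgroup.orderOf_mk t htX).trans hto
    rw [← zpow_mod_orderOf, ho] at hz
    rcases Int.emod_two_eq_zero_or_one z with h | h <;> rw [Nat.cast_ofNat, h] at hz
    · rw [zpow_zero] at hz
      have h' : orderOf (x * i * x⁻¹) = orderOf i := MulEquiv.orderOf_eq (MulAut.conj x) i
      rw [← hz, orderOf_one, hi] at h'
      omega
    · rw [zpow_one] at hz; exact hz.symm
  -- the normal complement
  have hXeven : 2 ∣ Nat.card X := (dvd_of_eq hQcard.symm).trans (Subgroup.card_subgroup_dvd_card _)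
  have hmin : (Nat.card X).minFac = 2 := (Nat.minFac_eq_two_iff _).2 hXeven
  have hQcyc : IsCyclic (Q : Subgroup X) := by rw [hQeq]; infer_instance
  have hcompl := MonoidHom.ker_transferSylow_isComplement' Q (hQcyc.normalizer_le_centralizer hmin)
  set K := (MonoidHom.transferSylow Q (hQcyc.normalizer_le_centralizer hmin)).ker with hK
  have hKodd : ¬ 2 ∣ Nat.card K := MonoidHom.not_dvd_card_ker_transferSylow Q _
  have hKmem : ∀ x : X, Odd (orderOf x) → x ∈ K := by
    intro x hx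
    rw [hK, MonoidHom.mem_ker]
    obtain ⟨i, hi⟩ := Q.2 (MonoidHom.transferSylow Q (hQcyc.normalizer_le_centralizer hmin) x)
    refine orderOf_eq_one_iff.1 (Nat.Coprime.eq_one_of_dvd ?_ (orderOf_dvd_of_pow_eq_one hi))
    exact Nat.Coprime.pow_right i (hx.coprime_two_right.coprime_dvd_left (orderOf_map_dvd _ x))
  -- an invariant Sylow subgroup of the complement
  obtain ⟨P2⟩ : Nonempty (Sylow k K) := inferInstance
  set P2' : Subgroup X := (P2 : Subgroup K).map K.subtype with hP2'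
  haveI : K.Normal := MonoidHom.normal_ker _
  have hfra : normalizer ((P2' : Subgroup X) : Set X) ⊔ K = ⊤ := Sylow.normalizer_sup_eq_top P2
  have heven : 2 ∣ Nat.card (normalizer ((P2' : Subgroup X) : Set X)) := by
    by_contra hodd
    have hle : normalizer ((P2' : Subgroup X) : Set X) ≤ K := fun x hx => hKmem x (by
      rw [← Nat.not_even_iff_odd, even_iff_two_dvd]
      exact fun h => hodd (h.trans (Subgroup.orderOf_dvd_natCard _ hx)))
    have htK : (⟨t, htX⟩ : X) ∈ K := by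
      have : (⟨t, htX⟩ : X) ∈ (⊤ : Subgroup X) := mem_top _
      rw [← hfra, sup_eq_right.2 hle] at this
      exact this
    exact hKodd ((dvd_of_eq (((Subgroup.orderOf_mk t htX).trans hto).symm)).trans
        (Subgroup.orderOf_dvd_natCard _ htK))
  obtain ⟨⟨i, hiN⟩, hi⟩ := exists_prime_orderOf_dvd_card' 2 heven
  rw [Subgroup.orderOf_mk] at hi
  obtain ⟨x, hx⟩ := hconj i hi
  -- the conjugate invariant under `t`
  set P3 : Subgroup G := (P2'.map (MulAut.conj x).toMonoidHom).map X.subtype with hP3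
  have hP3p : IsPGroup k P3 := ((P2.2.map _).map _).map _
  have hP3t : ∀ y ∈ P3, t * y * t⁻¹ ∈ P3 := by
    rintro _ ⟨_, ⟨y, hy, rfl⟩, rfl⟩
    refine ⟨MulAut.conj x (i * y * i⁻¹), ⟨i * y * i⁻¹, (mem_normalizer_iff.1 hiN y).1 hy, rfl⟩, ?_⟩
    have e : MulAut.conj x (i * y * i⁻¹) = (⟨t, htX⟩ : X) * MulAut.conj x y * (⟨t, htX⟩ : X)⁻¹ := by
      rw [← hx, MulAut.conj_apply, MulAut.conj_apply]
      group
    exact congrArg X.subtype e
  have hP3Ct : P3 ≤ Ct := by
    intro y hy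
    refine mem_centralizer_singleton_iff.2 ?_
    by_contra hne
    set z := y⁻¹ * (t * y * t⁻¹) with hz
    have hzP : z ∈ P3 := mul_mem (inv_mem hy) (hP3t y hy)
    have hz1 : z ≠ 1 := fun h => hne (by
      rw [hz, inv_mul_eq_one] at h
      exact (eq_mul_inv_iff_mul_eq.1 h))
    have ht2 : t⁻¹ = t := inv_eq_of_mul_eq_one_left (hel R t ht)
    have hinv : t * z * t⁻¹ = z⁻¹ := by
      rw [hz, ht2]
      calc t * (y⁻¹ * (t * y * t)) * t = t * y⁻¹ * t * y * (t * t) := by group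
        _ = t * y⁻¹ * t * y := by rw [hel R t ht, mul_one]
        _ = (y⁻¹ * (t * y * t))⁻¹ := by rw [mul_inv_rev, mul_inv_rev, mul_inv_rev, ht2, inv_inv]; group
    obtain ⟨e, he⟩ := hP3p ⟨z, hzP⟩
    obtain ⟨a, ha, hoz⟩ := (Nat.dvd_prime_pow hk).1
      (orderOf_dvd_of_pow_eq_one (congrArg Subtype.val he : z ^ k ^ e = 1))
    have hd : k ∣ orderOf z := by
      rw [hoz]
      exact dvd_pow_self k (fun h0 => hz1 (orderOf_eq_one_iff.1 (by rw [hoz, h0, pow_zero])))
    exact hC.no_invert hk hk2 hto hkCt hto (orderOf_pow_orderOf_div (orderOf_pos z).ne' hd)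
      (by rw [← conj_pow, hinv, inv_pow])
  -- the central subgroup `P1` lies in it
  have hP1X : P1 ≤ X := fun y hy => mem_centralizer_iff.2 fun w hw =>
    hC.odd_comm hk hk2 hP1p w hw y hy
  have hXodd : ∀ y : X, (∃ e : ℕ, (y : G) ^ k ^ e = 1) → y ∈ K := by
    rintro y ⟨e, he⟩
    refine hKmem y ?_
    rw [← Subgroup.orderOf_coe]
    exact Odd.of_dvd_nat ((hk.odd_of_ne_two hk2).pow) (orderOf_dvd_of_pow_eq_one he)
  have hP1K : P1.subgroupOf X ≤ K := fun y hy => by
    obtain ⟨e, he⟩ := hP1p ⟨(y : G), hy⟩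
    exact hXodd y ⟨e, congrArg Subtype.val he⟩
  have hP1P3 : P1 ≤ P3 := by
    intro y hy
    set yK : K := ⟨⟨y, hP1X hy⟩, hP1K hy⟩
    have hyc : ∀ w : X, w * (yK : X) = (yK : X) * w := fun w => Subtype.ext
      (mem_centralizer_iff.1 w.2 y hy).symm
    have hyp : IsPGroup k (zpowers yK) := by
      obtain ⟨e, he⟩ := hP1p ⟨y, hy⟩
      have : yK ^ k ^ e = 1 := Subtype.ext (Subtype.ext (congrArg Subtype.val he :))
      intro g
      obtain ⟨a, ha⟩ := mem_zpowers_iff.1 g.2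
      refine ⟨e, Subtype.ext ?_⟩
      push_cast
      rw [← ha, ← zpow_natCast, ← zpow_mul, mul_comm, zpow_mul, zpow_natCast, this, one_zpow]
    have hin := hyp.inf_normalizer_sylow P2
    have hmem : yK ∈ zpowers yK ⊓ (P2 : Subgroup K) := hin ▸ ⟨mem_zpowers _, by
      show yK ∈ normalizer ((P2 : Subgroup K) : Set K)
      refine mem_normalizer_iff.2 fun w => ?_
      have e : yK * w * yK⁻¹ = w := Subtype.ext (by
        push_cast
        rw [← hyc, mul_inv_cancel_right])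
      rw [e]⟩
    refine ⟨MulAut.conj x (yK : X), ⟨(yK : X), ⟨yK, hmem.2, rfl⟩, rfl⟩, ?_⟩
    rw [MulAut.conj_apply, hyc, mul_inv_cancel_right]
    rfl
  have heq13 : P1 = P3 := by
    refine le_antisymm hP1P3 ?_
    have h := P0.is_maximal' (hP3p.of_equiv (subgroupOfEquivOfLe hP3Ct).symm)
      (fun y hy => hP1P3 ⟨y, hy, rfl⟩)
    intro y hy
    have : (⟨y, hP3Ct hy⟩ : Ct) ∈ P3.subgroupOf Ct := hy
    rw [h] at this
    exact ⟨_, this, rfl⟩
  -- `P1` is a Sylow subgroup of the whole group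
  obtain ⟨P, hP⟩ := hP1p.exists_le_sylow
  have hPX : (P : Subgroup G) ≤ X := fun y hy => mem_centralizer_iff.2 fun w hw =>
    hC.odd_comm hk hk2 P.2 w (hP hw) y hy
  have hPeq : (P : Subgroup G) = P1 := by
    refine (Subgroup.eq_of_le_of_card_ge hP ?_).symm
    have hPK : (P : Subgroup G).subgroupOf X ≤ K := fun y hy => by
      obtain ⟨e, he⟩ := P.2 ⟨(y : G), hy⟩
      exact hXodd y ⟨e, congrArg Subtype.val he⟩
    have hp' : IsPGroup k (((P : Subgroup G).subgroupOf X).subgroupOf K) :=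
      (P.2.of_equiv (subgroupOfEquivOfLe hPX).symm).of_equiv (subgroupOfEquivOfLe hPK).symm
    obtain ⟨P2b, hP2b⟩ := hp'.exists_le_sylow
    have h4 := Nat.le_of_dvd Nat.card_pos (Subgroup.card_dvd_of_le hP2b)
    rw [Nat.card_congr (subgroupOfEquivOfLe hPK).toEquiv,
      Nat.card_congr (subgroupOfEquivOfLe hPX).toEquiv, P2b.card_eq_multiplicity,
      ← P2.card_eq_multiplicity] at h4
    refine h4.trans (le_of_eq ?_)
    rw [heq13, hP3, hP2', Subgroup.card_map_of_injective X.subtype_injective,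
      Subgroup.card_map_of_injective (MulEquiv.injective _),
      Subgroup.card_map_of_injective K.subtype_injective]
  -- control of fusion by the centraliser of `t`
  have hctrl : Cfsg.Agent.Transfer.ControlsFusion Ct P := by
    intro y hy g hg
    obtain ⟨n, hn', he⟩ := Cfsg.Agent.Transfer.controlsFusion_normalizer_of_abelian P
      ⟨⟨fun a b => Subtype.ext (hC.odd_comm hk hk2 P.2 a a.2 b b.2)⟩⟩ y hy g hg
    have hnX : n * t * n⁻¹ ∈ X := by
      refine mem_centralizer_iff.2 fun w hw => ?_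
      have hw' : n⁻¹ * w * n ∈ P1 := by
        rw [← hPeq]; exact (mem_normalizer_iff''.1 hn' w).1 (hPeq ▸ hw)
      have h5 := mem_centralizer_iff.1 htX _ hw'
      calc w * (n * t * n⁻¹) = n * ((n⁻¹ * w * n) * t) * n⁻¹ := by group
        _ = n * (t * (n⁻¹ * w * n)) * n⁻¹ := by rw [h5]
        _ = n * t * n⁻¹ * w := by group
    have hno : orderOf (⟨n * t * n⁻¹, hnX⟩ : X) = 2 := by
      rw [← Subgroup.orderOf_coe]; exact (MulEquiv.orderOf_eq (MulAut.conj n) t).trans hto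
    obtain ⟨x', hx'⟩ := hconj _ hno
    refine ⟨(x' : G) * n, mem_centralizer_singleton_iff.2 (mul_inv_eq_iff_eq_mul.1 ?_), ?_⟩
    · calc (x' : G) * n * t * ((x' : G) * n)⁻¹ = x' * (n * t * n⁻¹) * (x' : G)⁻¹ := by group
        _ = t := congrArg Subtype.val hx'
    · have hn1 : n * y * n⁻¹ ∈ P1 := by
        rw [← hPeq, he]; exact hg
      rw [← he]
      calc (x' : G) * n * y * ((x' : G) * n)⁻¹ = x' * (n * y * n⁻¹) * (x' : G)⁻¹ := by group
        _ = n * y * n⁻¹ := by rw [← mem_centralizer_iff.1 x'.2 _ hn1, mul_inv_cancel_right]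
  have hPCt : (P : Subgroup G) ≤ Ct := hPeq ▸ hP1Ct
  have hfocal := Cfsg.Agent.Transfer.ControlsFusion.commutator_inf_sylow_eq P hPCt hctrl
  have hder : ⁅Ct, Ct⁆ ≤ CR := by
    rw [Subgroup.commutator_le]
    intro a ha b hb
    haveI : Fact (Nat.Prime k) := ⟨hk⟩
    have hcyc : IsCyclic (↥Ct ⧸ CR.subgroupOf Ct) := isCyclic_of_prime_card (p := k) (by
      rw [← Subgroup.index]; exact hidx)
    have h6 : (QuotientGroup.mk (⁅(⟨a, ha⟩ : Ct), ⟨b, hb⟩⁆) : ↥Ct ⧸ CR.subgroupOf Ct) = 1 := by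
      have : (QuotientGroup.mk' (CR.subgroupOf Ct)) ⁅(⟨a, ha⟩ : Ct), ⟨b, hb⟩⁆ = 1 := by
        rw [map_commutatorElement, commutatorElement_eq_one_iff_mul_comm]
        obtain ⟨g, hg⟩ := hcyc.exists_generator
        obtain ⟨u, hu⟩ := mem_zpowers_iff.1 (hg (QuotientGroup.mk' _ (⟨a, ha⟩ : Ct)))
        obtain ⟨v, hv⟩ := mem_zpowers_iff.1 (hg (QuotientGroup.mk' _ (⟨b, hb⟩ : Ct)))
        rw [← hu, ← hv, ← zpow_add, ← zpow_add, add_comm]
      exact this
    rw [QuotientGroup.eq_one_iff, mem_subgroupOf] at h6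
    exact h6
  -- conclusion
  intro y hy
  obtain ⟨hy1, hy2⟩ := mem_inf.1 hy
  by_contra hyR
  obtain ⟨a, o, ho, hao⟩ := Nat.exists_eq_pow_mul_and_not_dvd (orderOf_pos y).ne' k hk.ne_one
  set y' : Ct := ⟨y, hy1⟩ ^ o with hy'
  have hy'R : (y' : G) ∉ CR := fun h => hyR (by
    obtain ⟨c, hc⟩ := exists_pow_eq_self_of_coprime (n := o)
      (x := (QuotientGroup.mk (⟨y, hy1⟩ : Ct) : ↥Ct ⧸ CR.subgroupOf Ct))
      (((hk.coprime_iff_not_dvd.2 ho).symm).coprime_dvd_right
        ((_root_.orderOf_dvd_natCard _).trans (dvd_of_eq hidx)))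
    have h7 : (QuotientGroup.mk (⟨y, hy1⟩ : Ct) : ↥Ct ⧸ CR.subgroupOf Ct) ^ o = 1 := by
      rw [← QuotientGroup.mk_pow, QuotientGroup.eq_one_iff, mem_subgroupOf]; exact h
    rw [h7, one_pow] at hc
    exact (QuotientGroup.eq_one_iff (⟨y, hy1⟩ : Ct)).1 hc.symm)
  have hy'p : IsPGroup k (zpowers y') := by
    refine IsPGroup.of_card (n := a) ?_
    rw [Nat.card_zpowers, hy', orderOf_pow, Subgroup.orderOf_mk, hao,
      Nat.gcd_eq_right (Dvd.intro_left _ rfl), Nat.mul_div_cancel]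
    exact Nat.pos_of_ne_zero fun h => ho (h ▸ dvd_zero k)
  obtain ⟨Pb, hPb⟩ := hy'p.exists_le_sylow
  obtain ⟨h, hh⟩ := MulAction.exists_smul_eq Ct Pb P0
  have hmem : h * y' * h⁻¹ ∈ (P0 : Subgroup Ct) := by
    rw [← hh, Sylow.coe_subgroup_smul, Subgroup.mem_smul_pointwise_iff_exists]
    exact ⟨y', hPb (mem_zpowers y'), rfl⟩
  have hm1 : ((h * y' * h⁻¹ : Ct) : G) ∈ (P : Subgroup G) := hPeq ▸ ⟨_, hmem, rfl⟩
  have hm2 : ((h * y' * h⁻¹ : Ct) : G) ∈ commutator G := by
    push_cast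
    refine (inferInstance : (commutator G).Normal).conj_mem _ ?_ _
    exact pow_mem hy2 o
  have hm3 : ((h * y' * h⁻¹ : Ct) : G) ∈ ⁅Ct, Ct⁆ := by
    have h8 : ((h * y' * h⁻¹ : Ct) : G) ∈ commutator G ⊓ (P : Subgroup G) := mem_inf.2 ⟨hm2, hm1⟩
    rw [hfocal] at h8
    exact h8.1
  have hm4 : h * y' * h⁻¹ ∈ CR.subgroupOf Ct := hder hm3
  refine hy'R ?_
  have := hn.conj_mem _ hm4 h⁻¹
  rw [show h⁻¹ * (h * y' * h⁻¹) * h⁻¹⁻¹ = y' by group] at this
  exact this

end Cfsg.Agent.ConjAll
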