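import Cfsg.Agent.ConjAll.ElemCase
import Cfsg.Agent.S0201
import Cfsg.Agent.S3378
import Cfsg.Agent.Recog.HuppertRegular

/-!
Groups with conjugate subgroups of equal order, trivial odd core and quaternion Sylow 2-subgroups.
-/

set_option autoImplicit false
set_option linter.style.haveILetI false
set_option linter.unusedSectionVars false

namespace Cfsg.Agent.ConjAll

open Subgroup

theorem q8_sq : ∀ x : QuaternionGroup 2, x * x = 1 ∨ x * x = QuaternionGroup.a 2 := by decide

theorem q8_invol : ∀ x : QuaternionGroup 2, x * x = 1 → x = 1 ∨ x = QuaternionGroup.a 2 := by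
  decide

theorem alternating_five_not_solvable : ¬ Group.IsSolvable (alternatingGroup (Fin 5)) := by
  intro h
  refine Equiv.Perm.not_isSolvable_fin_5 ?_
  exact Group.isSolvable_of_ker_le_range (alternatingGroup (Fin 5)).subtype Equiv.Perm.sign
    (by rw [Subgroup.range_subtype]; rfl)

variable {G : Type*} [Group G] [Finite G]

theorem quat_case (hC : IsConjAll G) (hO : Cfsg.oddCore G = ⊥) (S : Sylow 2 G)
    (e : (S : Subgroup G) ≃* QuaternionGroup 2) :
    Nonempty (G ≃* Matrix.SpecialLinearGroup (Fin 2) (ZMod 3)) ∨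
    Nonempty (G ≃* Matrix.SpecialLinearGroup (Fin 2) (ZMod 5)) := by
  classical
  haveI : Fact (Nat.Prime 2) := ⟨Nat.prime_two⟩
  haveI : Fact (Nat.Prime 3) := ⟨Nat.prime_three⟩
  have hS8 : Nat.card (S : Subgroup G) = 8 := by
    rw [Nat.card_congr e.toEquiv, Nat.card_eq_fintype_card, QuaternionGroup.card]
  have hZ2 : Nat.card (center G) = 2 := Cfsg.Agent.S0201.result S 0 e fun N hN hodd =>
    eq_bot_iff.2 (hO ▸ PSolv.le_pPrimeCore hN hodd.coprime_two_right)
  set Z := center G with hZdef
  haveI hZn : Z.Normal := inferInstance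
  have hZp : IsPGroup 2 Z := IsPGroup.of_card (n := 1) (by rw [hZ2, pow_one])
  have hZS : Z ≤ (S : Subgroup G) := by
    intro x hx
    have hle : Z ≤ normalizer ((S : Subgroup G) : Set G) := fun y hy =>
      mem_normalizer_iff.2 fun w => by
        rw [← (mem_center_iff.1 hy w), mul_inv_cancel_right]
    have hmem : x ∈ Z ⊓ (S : Subgroup G) := by
      rw [← hZp.inf_normalizer_sylow S]; exact mem_inf.2 ⟨hx, hle hx⟩
    exact hmem.2
  obtain ⟨⟨z, hz⟩, hzo⟩ := exists_prime_orderOf_dvd_card' 2 (dvd_of_eq hZ2.symm : 2 ∣ Nat.card Z)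
  rw [Subgroup.orderOf_mk] at hzo
  -- squares and involutions in `S`
  have hz' : ((e ⟨z, hZS hz⟩) : QuaternionGroup 2) = QuaternionGroup.a 2 := by
    have h2 : (⟨z, hZS hz⟩ : (S : Subgroup G)) * ⟨z, hZS hz⟩ = 1 := Subtype.ext (by
      have := pow_orderOf_eq_one z; rwa [hzo, pow_two] at this)
    rcases q8_invol (e ⟨z, hZS hz⟩) (by rw [← map_mul, h2, map_one]) with h | h
    · have h1 := congrArg Subtype.val (e.injective (h.trans (map_one e).symm))
      change z = 1 at h1
      rw [h1, orderOf_one] at hzo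
      omega
    · exact h
  have huniq : ∀ x ∈ (S : Subgroup G), x * x = 1 → x = 1 ∨ x = z := by
    intro x hx hxx
    rcases q8_invol (e ⟨x, hx⟩) (by
      rw [← map_mul, show (⟨x, hx⟩ : (S : Subgroup G)) * ⟨x, hx⟩ = 1 from Subtype.ext hxx,
        map_one]) with h | h
    · exact Or.inl (congrArg Subtype.val (e.injective (h.trans (map_one e).symm)))
    · exact Or.inr (congrArg Subtype.val (e.injective (h.trans hz'.symm)))
  have hsqZ : ∀ x ∈ (S : Subgroup G), x * x ∈ Z := by
    intro x hx
    rcases q8_sq (e ⟨x, hx⟩) with h | h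
    · have := congrArg Subtype.val (e.injective
        ((map_mul e ⟨x, hx⟩ ⟨x, hx⟩).trans (h.trans (map_one e).symm)))
      change x * x = 1 at this
      rw [this]; exact one_mem Z
    · have := congrArg Subtype.val (e.injective
        ((map_mul e ⟨x, hx⟩ ⟨x, hx⟩).trans (h.trans hz'.symm)))
      change x * x = z at this
      rw [this]; exact hz
  set π := QuotientGroup.mk' Z with hπdef
  have hπ : Function.Surjective π := QuotientGroup.mk'_surjective Z
  have hker : π.ker = Z := QuotientGroup.ker_mk' Z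
  -- trivial odd core
  have hOQ : Cfsg.oddCore (G ⧸ Z) = ⊥ := by
    set K := Cfsg.oddCore (G ⧸ Z) with hK
    have hKc : (Nat.card K).Coprime 2 := PSolv.coprime_card_pPrimeCore 2 _
    set M := K.comap π with hM
    haveI : M.Normal := Subgroup.Normal.comap inferInstance π
    have hMc : Nat.card M = 2 * Nat.card K := by
      rw [hM, card_comap_of_surjective π hπ, hker, hZ2]
    have hZM : Z ≤ M := hker ▸ Subgroup.ker_le_comap π K
    obtain ⟨P, hP⟩ := (hZp.of_equiv (subgroupOfEquivOfLe hZM).symm).exists_le_sylow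
    have hPd : Nat.card (P : Subgroup M) ∣ 2 := by
      obtain ⟨j, hj⟩ := IsPGroup.iff_card.1 P.2
      have hd := Subgroup.card_subgroup_dvd_card (P : Subgroup M)
      rw [hMc] at hd
      exact (Nat.Coprime.dvd_of_dvd_mul_right (by
        rw [hj]; exact Nat.Coprime.pow_left j hKc.symm) hd)
    have hPle : (P : Subgroup M) ≤ center M := by
      have heq : Z.subgroupOf M = (P : Subgroup M) := Subgroup.eq_of_le_of_card_ge hP (by
        rw [Nat.card_congr (subgroupOfEquivOfLe hZM).toEquiv, hZ2]
        exact Nat.le_of_dvd two_pos hPd)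
      intro x hx
      rw [← heq] at hx
      exact mem_center_iff.2 fun y => Subtype.ext (mem_center_iff.1 hx (y : G))
    have htop := isPGroup_two_of_central hO M P hPle
    have hc := congrArg (fun H : Subgroup M => Nat.card H) htop
    simp only [Subgroup.card_top, hMc] at hc
    have h1 : 2 * Nat.card K ∣ 2 := hc ▸ hPd
    have h2 := Nat.le_of_dvd two_pos h1
    have h3 := Nat.card_pos (α := K)
    exact Subgroup.eq_bot_of_card_eq _ (by omega)
  -- the four-group quotient
  set Sb : Sylow 2 (G ⧸ Z) := S.mapSurjective hπ with hSb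
  have hSbc : (Sb : Subgroup (G ⧸ Z)) = (S : Subgroup G).map π := rfl
  have hcm : ((Sb : Subgroup (G ⧸ Z))).comap π = (S : Subgroup G) := by
    rw [hSbc, Subgroup.comap_map_eq, hker, sup_eq_left.2 hZS]
  have hSb4 : Nat.card Sb = 4 := by
    have h := card_comap_of_surjective π hπ (Sb : Subgroup (G ⧸ Z))
    rw [hcm, hker, hZ2, hS8] at h
    have : Nat.card (Sb : Subgroup (G ⧸ Z)) = 4 := by omega
    exact this
  have hel : ExpTwo (G ⧸ Z) := expTwo_of_one Sb fun x hx => by
    obtain ⟨s, hs, rfl⟩ : x ∈ (S : Subgroup G).map π := hx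
    rw [pow_two, ← map_mul, ← MonoidHom.mem_ker, hker]
    exact hsqZ s hs
  have hGc : Nat.card G = 2 * Nat.card (G ⧸ Z) := by
    rw [Subgroup.card_eq_card_quotient_mul_card_subgroup Z, hZ2, mul_comm]
  rcases four_case (hC.quotient Z) hel hOQ Sb hSb4 with ⟨hn, h12, -⟩ | ⟨⟨j⟩⟩
  · left
    have hG : Nat.card G = 24 := by rw [hGc, h12]
    have hSn : (S : Subgroup G).Normal := hcm ▸ hn.comap π
    obtain ⟨g, hg⟩ := exists_prime_orderOf_dvd_card' (G := G) 3 (by rw [hG]; norm_num)
    refine Recog.TransLin.nonempty_equiv_sl_two_three hG hSn S.2 (fun x hx y hy hxo hyo => ?_) hg ?_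
    · have h1 : ∀ w ∈ (S : Subgroup G), orderOf w = 2 → w = z := fun w hw hwo =>
        (huniq w hw (by have := pow_orderOf_eq_one w; rwa [hwo, pow_two] at this)).resolve_left
          (fun h => by rw [h, orderOf_one] at hwo; omega)
      rw [h1 x hx hxo, h1 y hy hyo]
    · intro hgc
      set C := centralizer ({g} : Set G) with hCdef
      have hCtop : C = ⊤ := by
        refine Subgroup.eq_top_of_card_eq _ (Nat.dvd_antisymm
          (Subgroup.card_subgroup_dvd_card _) ?_)
        rw [hG, show (24 : ℕ) = 8 * 3 from rfl]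
        refine Nat.Coprime.mul_dvd_of_dvd_of_dvd (by norm_num) ?_ ?_
        · rw [← hS8]
          exact Subgroup.card_dvd_of_le fun s hs =>
            mem_centralizer_singleton_iff.2 (mem_centralizer_iff.1 hgc s hs)
        · rw [← hg]
          exact Subgroup.orderOf_dvd_natCard _ (mem_centralizer_singleton_iff.2 rfl)
      have hgZ : g ∈ Z := mem_center_iff.2 fun w => by
        have : w ∈ C := hCtop ▸ mem_top w
        exact mem_centralizer_singleton_iff.1 this
      have := Subgroup.orderOf_dvd_natCard Z hgZ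
      rw [hg, hZ2] at this
      omega
  · right
    have hG : Nat.card G = 120 := by
      rw [hGc, Nat.card_congr j.toEquiv, nat_card_alternatingGroup, Nat.card_eq_fintype_card,
        Fintype.card_fin]
      rfl
    refine Cfsg.Agent.S3378.result.1 G hG (fun hs => alternating_five_not_solvable ?_)
      (fun P => ?_)
    · haveI := hs
      exact Group.isSolvable_of_surjective (f := j.toMonoidHom.comp π) (j.surjective.comp hπ)
    · obtain ⟨g, hg⟩ := MulAction.exists_smul_eq G P S
      exact ⟨((P.equiv S)).trans e⟩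

end Cfsg.Agent.ConjAll
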