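import Cfsg.Agent.ConjAll.Local
import Cfsg.Agent.ConjAll.Core
import Cfsg.Agent.S1230

/-!
The socle satisfies the local hypotheses and is a two-dimensional linear group.
-/

set_option autoImplicit false
set_option linter.style.haveILetI false
set_option linter.unusedSectionVars false

namespace Cfsg.Agent.ConjAll

open Subgroup

variable {G : Type*} [Group G] [Finite G]

/-- Conjugation on an invariant set. -/
abbrev conjActOn (H : Subgroup G) (T : Set G)
    (hT : ∀ h ∈ H, ∀ x ∈ T, h * x * h⁻¹ ∈ T) : MulAction H T where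
  smul h x := ⟨(h : G) * x * (h : G)⁻¹, hT h h.2 x x.2⟩
  one_smul x := Subtype.ext (by show (1 : G) * x * (1 : G)⁻¹ = x; group)
  mul_smul g h x := Subtype.ext (by
    show ((g : G) * h) * x * ((g : G) * h)⁻¹ = g * (h * x * (h : G)⁻¹) * (g : G)⁻¹
    group)

theorem card_dvd_of_trans (H : Subgroup G) (T : Set G)
    (hT : ∀ h ∈ H, ∀ x ∈ T, h * x * h⁻¹ ∈ T) {x : G} (hx : x ∈ T)
    (htr : ∀ y ∈ T, ∃ h ∈ H, h * x * h⁻¹ = y) : Nat.card T ∣ Nat.card H := by
  let _ := conjActOn H T hT
  have ho : MulAction.orbit H (⟨x, hx⟩ : T) = Set.univ := Set.eq_univ_of_forall fun y => by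
    obtain ⟨h, hh, e⟩ := htr y y.2
    exact ⟨⟨h, hh⟩, Subtype.ext e⟩
  have e := Nat.card_congr (MulAction.orbitEquivQuotientStabilizer H (⟨x, hx⟩ : T))
  rw [Nat.card_congr ((Equiv.setCongr ho).trans (Equiv.Set.univ _))] at e
  rw [e]
  exact Subgroup.card_quotient_dvd_card _

theorem relIndex_dvd_of_free (H B : Subgroup G) (T : Set G)
    (hT : ∀ h ∈ H, ∀ x ∈ T, h * x * h⁻¹ ∈ T)
    (hst : ∀ x ∈ T, ∀ h ∈ H, h * x * h⁻¹ = x ↔ h ∈ B) : B.relIndex H ∣ Nat.card T := by
  classical
  let _ := conjActOn H T hT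
  have hs : ∀ x : T, MulAction.stabilizer H x = B.subgroupOf H := fun x => by
    ext h
    rw [MulAction.mem_stabilizer_iff, mem_subgroupOf, ← hst x x.2 h h.2]
    exact Subtype.ext_iff
  haveI := Fintype.ofFinite (Quotient (MulAction.orbitRel H T))
  rw [Nat.card_congr (MulAction.selfEquivSigmaOrbitsQuotientStabilizer H T), Nat.card_sigma]
  refine Finset.dvd_sum fun i _ => ?_
  rw [hs]
  rfl

variable (hC : IsConjAll G) (hel : ExpTwo G)
include hC hel

/-- In the socle the centraliser of an involution centralises its Sylow 2-subgroup. -/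
theorem cent_le_socle {R : Sylow 2 G} {t : G} (ht : t ∈ R) (h1 : t ≠ 1)
    (hq : Nat.card R = 8 ∨ Nat.card R = 32) {N : Subgroup G} (hN : N ≤ commutator G) :
    centralizer ({t} : Set G) ⊓ N ≤ centralizer ((R : Subgroup G) : Set G) := by
  obtain ⟨e, he, h3⟩ : ∃ e, Nat.card R = 2 ^ e ∧ 3 ≤ e := by
    rcases hq with h | h
    · exact ⟨3, h, le_rfl⟩
    · exact ⟨5, h, by norm_num⟩
  obtain ⟨c, hc, hcases, -⟩ := ExpTwo.rank_data hC hel R he h3
  have hn := ExpTwo.card_norm hC hel ht h1
  rw [hc, he] at hn
  have hle : centralizer ((R : Subgroup G) : Set G) ≤ centralizer ({t} : Set G) := fun x hx =>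
    mem_centralizer_singleton_iff.2 (mem_centralizer_iff.1 hx t ht).symm
  have same : c = 2 ^ e - 1 →
      centralizer ({t} : Set G) ≤ centralizer ((R : Subgroup G) : Set G) := fun h => by
    refine (Subgroup.eq_of_le_of_card_ge hle ?_).ge
    rw [h] at hn
    refine le_of_eq (Nat.eq_of_mul_eq_mul_left ?_ hn).symm
    have : 2 ^ 1 ≤ 2 ^ e := Nat.pow_le_pow_right (by norm_num) (by omega)
    omega
  rcases hcases with ⟨rfl, rfl | rfl⟩ | ⟨rfl, rfl⟩
  · exact inf_le_left.trans (same rfl)
  · refine (inf_le_inf_left _ hN).trans (ExpTwo.derived_cent_le hC hel ht h1 (q := 8) (k := 3)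
      (Or.inl ⟨rfl, rfl⟩) he ?_)
    rw [show (2 ^ 3 - 1 : ℕ) = 7 from rfl] at hn
    show Nat.card (centralizer ({t} : Set G)) =
      3 * Nat.card (centralizer ((R : Subgroup G) : Set G))
    omega
  · refine (inf_le_inf_left _ hN).trans (ExpTwo.derived_cent_le hC hel ht h1 (q := 32) (k := 5)
      (Or.inr ⟨rfl, rfl⟩) he ?_)
    rw [show (2 ^ 5 - 1 : ℕ) = 31 from rfl] at hn
    show Nat.card (centralizer ({t} : Set G)) =
      5 * Nat.card (centralizer ((R : Subgroup G) : Set G))
    omega

/-- A Sylow 2-subgroup of the socle is one of the group. -/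
theorem sylow_up (S : Sylow 2 G) {N : Subgroup G} (hSN : (S : Subgroup G) ≤ N) (c : Sylow 2 N) :
    ∃ R : Sylow 2 G, (c : Subgroup N).map N.subtype = (R : Subgroup G) := by
  haveI : Fact (Nat.Prime 2) := ⟨Nat.prime_two⟩
  obtain ⟨R, hR⟩ := ((c.2).map N.subtype).exists_le_sylow
  refine ⟨R, Subgroup.eq_of_le_of_card_ge hR ?_⟩
  obtain ⟨c', hc'⟩ := (S.2.of_equiv (subgroupOfEquivOfLe hSN).symm).exists_le_sylow
  have h1 := Nat.le_of_dvd Nat.card_pos (Subgroup.card_dvd_of_le hc')
  rw [Nat.card_congr (subgroupOfEquivOfLe hSN).toEquiv, c'.card_eq_multiplicity,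
    S.card_eq_multiplicity] at h1
  rw [Subgroup.card_map_of_injective N.subtype_injective, R.card_eq_multiplicity,
    c.card_eq_multiplicity]
  exact h1

theorem socle_psl (S : Sylow 2 G) (hq : Nat.card S = 8 ∨ Nat.card S = 32)
    (hnn : ¬ (S : Subgroup G).Normal) (N : Subgroup G) [hNn : N.Normal] [hsimple : IsSimpleGroup N]
    (hall : ∀ R : Sylow 2 G, (R : Subgroup G) ≤ N) (hindex : Odd N.index)
    (hder : N ≤ commutator G) :
    ∃ (F : Type) (_ : Field F) (_ : Fintype F), Fintype.card F = Nat.card S ∧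
      Nonempty (N ≃* Matrix.ProjectiveSpecialLinearGroup (Fin 2) F) ∧
      ∀ (R : Sylow 2 G) (t : G), t ∈ R → t ≠ 1 →
        centralizer ({t} : Set G) ⊓ N ≤ (R : Subgroup G) := by
  classical
  haveI : Fact (Nat.Prime 2) := ⟨Nat.prime_two⟩
  haveI : Fact (Nat.Prime 3) := ⟨Nat.prime_three⟩
  set q := Nat.card S with hqdef
  have hcardR : ∀ R : Sylow 2 G, Nat.card R = q := fun R => by
    rw [hqdef, R.card_eq_multiplicity, S.card_eq_multiplicity]
  have hup := sylow_up hC hel S (hall S)
  have hmemup : ∀ {c : Sylow 2 N} {R : Sylow 2 G},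
      (c : Subgroup N).map N.subtype = (R : Subgroup G) → ∀ x : N, (x : G) ∈ R ↔ x ∈ c := by
    intro c R e x
    constructor
    · intro hx
      obtain ⟨y, hy, hyx⟩ : (x : G) ∈ (c : Subgroup N).map N.subtype := e ▸ hx
      rwa [← Subtype.ext hyx]
    · intro hx
      have : (x : G) ∈ (c : Subgroup N).map N.subtype := ⟨x, hx, rfl⟩
      rwa [e] at this
  have hcard : ∀ c : Sylow 2 N, Nat.card c = q := by
    intro c
    obtain ⟨R, hR⟩ := hup c
    exact (Nat.card_congr
      ((c : Subgroup N).equivMapOfInjective N.subtype N.subtype_injective).toEquiv).trans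
      ((congrArg (fun H : Subgroup G => Nat.card H) hR).trans (hcardR R))
  have hnt : ∀ c : Sylow 2 N, ∃ t ∈ c, t ≠ (1 : N) := by
    intro c
    haveI : Nontrivial (c : Subgroup N) := Finite.one_lt_card_iff_nontrivial.1 (by
      have := hcard c; omega)
    obtain ⟨⟨t, ht⟩, h⟩ := exists_ne (1 : (c : Subgroup N))
    exact ⟨t, ht, fun e => h (Subtype.ext e)⟩
  have hnotnormal : ∀ c : Sylow 2 N, ¬ (c : Subgroup N).Normal := by
    intro c hc
    rcases hc.eq_bot_or_eq_top with h | h
    · obtain ⟨t, ht, ht1⟩ := hnt c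
      change t ∈ (c : Subgroup N) at ht
      rw [h] at ht
      exact ht1 (Subgroup.mem_bot.1 ht)
    · obtain ⟨R, hR⟩ := hup c
      rw [h, ← MonoidHom.range_eq_map, Subgroup.range_subtype] at hR
      refine hnn ?_
      have hS : (S : Subgroup G) = N := Subgroup.eq_of_le_of_card_ge (hall S) (by
        rw [hR, hcardR R])
      rwa [hS]
  have hcle : ∀ (c : Sylow 2 N) (t : N), t ∈ c → t ≠ 1 →
      centralizer ({t} : Set N) = CS c := by
    intro c t ht ht1
    refine le_antisymm (fun x hx => ?_) (fun x hx => ?_)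
    · obtain ⟨R, hR⟩ := hup c
      have h := cent_le_socle hC hel ((hmemup hR t).2 ht) (fun e => ht1 (Subtype.ext e))
        ((hcardR R).symm ▸ hq) hder
        (mem_inf.2 ⟨mem_centralizer_singleton_iff.2
          (congrArg Subtype.val (mem_centralizer_singleton_iff.1 hx)), x.2⟩)
      exact mem_centralizer_iff.2 fun y hy =>
        Subtype.ext (mem_centralizer_iff.1 h y ((hmemup hR y).2 hy))
    · exact mem_centralizer_singleton_iff.2 (mem_centralizer_iff.1 hx t ht).symm
  have hidx : ∀ c : Sylow 2 N, Nat.card (NS c) = (q - 1) * Nat.card (CS c) := by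
    intro c
    have hle : CS c ≤ NS c := centralizer_le_normalizer _
    have hfree := relIndex_dvd_of_free (NS c) (CS c) (((c : Subgroup N) : Set N) \ {1})
      (fun h hh x hx => ⟨(mem_normalizer_iff.1 hh x).1 hx.1,
        fun e => hx.2 (conj_eq_one_iff.1 (Set.mem_singleton_iff.1 e))⟩)
      (fun x hx h _ => by
        rw [← hcle c x hx.1 hx.2, mem_centralizer_singleton_iff]
        exact mul_inv_eq_iff_eq_mul)
    have hcT : Nat.card ↥(((c : Subgroup N) : Set N) \ {1}) = q - 1 := by
      rw [Nat.card_coe_set_eq, Set.ncard_sdiff_singleton_of_mem (one_mem (c : Subgroup N)),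
        ← Nat.card_coe_set_eq, ← hcard c]
      rfl
    rw [hcT] at hfree
    have hprime : (q - 1).Prime := by rcases hq with h | h <;> rw [h] <;> norm_num
    have hmul : (CS c).relIndex (NS c) * Nat.card (CS c) = Nat.card (NS c) := by
      rw [← Nat.card_congr (subgroupOfEquivOfLe hle).toEquiv, mul_comm]
      exact Subgroup.card_mul_index ((CS c).subgroupOf (NS c))
    rcases (Nat.dvd_prime hprime).1 hfree with h | h
    · exfalso
      have hn : NS c ≤ CS c := Subgroup.relIndex_eq_one.1 h
      have hcompl := MonoidHom.ker_transferSylow_isComplement' c hn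
      rcases (MonoidHom.normal_ker (MonoidHom.transferSylow c hn)).eq_bot_or_eq_top with hk | hk
      · rw [hk] at hcompl
        refine hnotnormal c ?_
        rw [Subgroup.isComplement'_bot_left.1 hcompl]
        infer_instance
      · rw [hk] at hcompl
        obtain ⟨t, ht, ht1⟩ := hnt c
        change t ∈ (c : Subgroup N) at ht
        rw [Subgroup.isComplement'_top_left.1 hcompl] at ht
        exact ht1 (Subgroup.mem_bot.1 ht)
    · rw [← h, hmul]
  let C : Ctx ↥N :=
    { q := q
      hq := hq
      hcard := hcard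
      hel := fun c x hx => by
        obtain ⟨R, hR⟩ := hup c
        exact Subtype.ext (hel R _ ((hmemup hR x).2 hx))
      two := by
        obtain ⟨c⟩ : Nonempty (Sylow 2 N) := inferInstance
        by_contra h
        push Not at h
        haveI : Subsingleton (Sylow 2 N) := ⟨fun a b => h a b⟩
        exact hnotnormal c (Sylow.normal_of_subsingleton c)
      hC := hcle
      hidx := hidx
      hab := fun p hp hp2 P hP x hx y hy => Subtype.ext
        (hC.odd_comm hp hp2 (hP.map N.subtype) _ ⟨x, hx, rfl⟩ _ ⟨y, hy, rfl⟩)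
      hNI := fun p hp hp2 c hdvd u y hu hy h => by
        obtain ⟨t, ht, ht1⟩ := hnt c
        obtain ⟨R, hR⟩ := hup c
        have hto : orderOf (t : G) = 2 :=
          ExpTwo.order_two hel ((hmemup hR t).2 ht) (fun e => ht1 (Subtype.ext e))
        refine hC.no_invert hp hp2 hto (hdvd.trans ?_) ((Subgroup.orderOf_coe u).trans hu)
          ((Subgroup.orderOf_coe y).trans hy) (congrArg Subtype.val h)
        refine (dvd_of_eq (Nat.card_congr
          ((CS c).equivMapOfInjective N.subtype N.subtype_injective).toEquiv)).trans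
          (Subgroup.card_dvd_of_le ?_)
        rintro _ ⟨x, hx, rfl⟩
        exact mem_centralizer_singleton_iff.2
          (congrArg Subtype.val (mem_centralizer_iff.1 hx t ht).symm)
      h9 := fun _ g hg P => by
        obtain ⟨Q, hQ⟩ := ((P.2).map N.subtype).exists_le_sylow
        haveI := hC.cyclic_of_order_sq Nat.prime_three (by norm_num) (g := (g : G))
          (by rw [Subgroup.orderOf_coe, hg]; norm_num) Q
        exact isCyclic_of_injective
          ((Subgroup.inclusion hQ).comp
            ((P : Subgroup N).equivMapOfInjective N.subtype N.subtype_injective).toMonoidHom)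
          ((Subgroup.inclusion_injective hQ).comp (MulEquiv.injective _))
      h3 := fun _ V hexp ⟨t, ht, hinv⟩ h8 => by
        by_cases hV : (V : Subgroup N) = ⊥
        · rw [hV, show normalizer (((⊥ : Subgroup N)) : Set N) = ⊤ from
            normalizer_eq_top_iff.2 inferInstance, Subgroup.card_top]
          obtain ⟨c⟩ : Nonempty (Sylow 2 N) := inferInstance
          refine (Dvd.dvd.trans ?_ (Subgroup.card_subgroup_dvd_card (c : Subgroup N)))
          rw [show Nat.card (c : Subgroup N) = q from hcard c]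
          rcases hq with h | h <;> rw [h] <;> norm_num
        obtain ⟨x0, hx0, hx01⟩ : ∃ x ∈ (V : Subgroup N), x ≠ (1 : N) := by
          by_contra h
          push Not at h
          exact hV (eq_bot_iff.2 fun x hx => Subgroup.mem_bot.2 (h x hx))
        set W := (V : Subgroup N).map N.subtype with hW
        obtain ⟨P, hP⟩ := ((V.2).map N.subtype).exists_le_sylow
        have hPN : ∀ x : N, (x : G) ∈ P → x ∈ (V : Subgroup N) := fun x hx => by
          have e := V.is_maximal' (P.2.comap_of_injective N.subtype N.subtype_injective)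
            (fun y hy => hP ⟨y, hy, rfl⟩)
          have hxc : x ∈ (P : Subgroup G).comap N.subtype := hx
          rwa [e] at hxc
        have hWN : W ≤ N := Subgroup.map_subtype_le _
        have hP' : ∀ n ∈ normalizer ((P : Subgroup G) : Set G),
            n ∈ normalizer (W : Set G) := by
          intro n hn
          have key : ∀ m ∈ normalizer ((P : Subgroup G) : Set G), ∀ w ∈ W, m * w * m⁻¹ ∈ W := by
            intro m hm w hw
            exact ⟨⟨m * w * m⁻¹, hNn.conj_mem w (hWN hw) m⟩,
              hPN _ ((mem_normalizer_iff.1 hm w).1 (hP hw)), rfl⟩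
          refine mem_normalizer_iff.2 fun w => ⟨key n hn w, fun hw => ?_⟩
          have := key n⁻¹ (inv_mem hn) _ hw
          rwa [show n⁻¹ * (n * w * n⁻¹) * n⁻¹⁻¹ = w by group] at this
        have hexpW : ∀ w ∈ W, w ≠ 1 → orderOf w = 3 := by
          rintro _ ⟨v, hv, rfl⟩ hw1
          exact orderOf_eq_prime (congrArg Subtype.val (hexp v hv)) hw1
        have htr : ∀ y ∈ ((W : Set G) \ {1}), ∃ h ∈ normalizer (W : Set G),
            h * (x0 : G) * h⁻¹ = y := by
          intro y hy
          have hy3 := hexpW y hy.1 hy.2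
          have hx3 := hexpW x0 ⟨x0, hx0, rfl⟩ (fun e => hx01 (Subtype.ext e))
          obtain ⟨g, hg⟩ := hC.exists_zpowers (hx3.trans hy3.symm)
          have hgo : orderOf (g * (x0 : G) * g⁻¹) = 3 :=
            (MulEquiv.orderOf_eq (MulAut.conj g) _).trans hx3
          obtain ⟨g', hg'⟩ : ∃ g', g' * (x0 : G) * g'⁻¹ = y := by
            have hm : y ∈ zpowers (g * (x0 : G) * g⁻¹) := hg ▸ mem_zpowers y
            obtain ⟨i, hi⟩ := mem_zpowers_iff.1 hm
            rw [← zpow_mod_orderOf, hgo] at hi
            have hi3 : i % 3 = 0 ∨ i % 3 = 1 ∨ i % 3 = 2 := by omega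
            rcases hi3 with h | h | h <;> rw [Nat.cast_ofNat, h] at hi
            · rw [zpow_zero] at hi; exact absurd hi.symm hy.2
            · exact ⟨g, by rw [zpow_one] at hi; exact hi⟩
            · have e3 := pow_orderOf_eq_one (g * (x0 : G) * g⁻¹)
              rw [hgo] at e3
              have e : g * (x0 : G) * g⁻¹ = y⁻¹ := by
                rw [eq_inv_iff_mul_eq_one, ← hi, zpow_two, ← e3, pow_succ (g * (x0 : G) * g⁻¹) 2, pow_two]; group
              obtain ⟨v, hv, hvy⟩ := hy.1
              refine ⟨(t : G) * g, ?_⟩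
              have hv' := congrArg Subtype.val (hinv v⁻¹ (inv_mem hv))
              push_cast at hv'
              rw [show ((v : N) : G) = y from hvy, inv_inv] at hv'
              rw [← hv', ← e]
              group
          obtain ⟨n, hn, hne⟩ := Cfsg.Agent.Transfer.controlsFusion_normalizer_of_abelian P
            ⟨⟨fun a b => Subtype.ext (hC.odd_comm Nat.prime_three (by norm_num) P.2 a a.2 b b.2)⟩⟩
            (x0 : G) (hP ⟨x0, hx0, rfl⟩) g' (hg'.symm ▸ hP hy.1)
          exact ⟨n, hP' n hn, hne.trans hg'⟩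
        have hdvd := card_dvd_of_trans (normalizer (W : Set G)) ((W : Set G) \ {1})
          (fun h hh x hx => ⟨(mem_normalizer_iff.1 hh x).1 hx.1,
            fun e => hx.2 (conj_eq_one_iff.1 (Set.mem_singleton_iff.1 e))⟩)
          (x := (x0 : G)) ⟨⟨x0, hx0, rfl⟩, fun e => hx01 (Subtype.ext e)⟩ htr
        rw [Nat.card_coe_set_eq, Set.ncard_sdiff_singleton_of_mem (one_mem W),
          ← Nat.card_coe_set_eq, show Nat.card (W : Set G) = Nat.card V from
            Subgroup.card_map_of_injective N.subtype_injective] at hdvd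
        have e : (normalizer (W : Set G)).subgroupOf N =
            normalizer ((V : Subgroup N) : Set N) := by
          ext n
          rw [mem_subgroupOf, mem_normalizer_iff, mem_normalizer_iff]
          have hmW : ∀ v : N, (v : G) ∈ W ↔ v ∈ (V : Subgroup N) := fun v =>
            ⟨fun ⟨w, hw, hwv⟩ => Subtype.ext hwv ▸ hw, fun hv => ⟨v, hv, rfl⟩⟩
          constructor
          · intro h v
            rw [← hmW v, ← hmW]
            exact h (v : G)
          · intro h w
            constructor
            · intro hw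
              have := (hmW _).2 ((h ⟨w, hWN hw⟩).1 ((hmW ⟨w, hWN hw⟩).1 hw))
              exact this
            · intro hw
              have hwN : w ∈ N := by
                have := hNn.conj_mem _ (hWN hw) (n : G)⁻¹
                rwa [show (n : G)⁻¹ * ((n : G) * w * (n : G)⁻¹) * (n : G)⁻¹⁻¹ = w by group] at this
              exact (hmW ⟨w, hwN⟩).2 ((h ⟨w, hwN⟩).2 ((hmW _).1 hw))
        have hrel : N.relIndex (normalizer (W : Set G)) ∣ N.index :=
          Subgroup.relIndex_dvd_index_of_normal N _
        have hmul : Nat.card (normalizer ((V : Subgroup N) : Set N)) *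
            N.relIndex (normalizer (W : Set G)) = Nat.card (normalizer (W : Set G)) := by
          rw [← e, Subgroup.relIndex, ← Subgroup.card_mul_index (N.subgroupOf (normalizer (W : Set G)))]
          congr 1
          exact Nat.card_congr
            { toFun := fun x => ⟨⟨(x : N), x.2⟩, x.1.2⟩
              invFun := fun x => ⟨⟨(x : normalizer (W : Set G)), x.2⟩, x.1.2⟩
              left_inv := fun x => rfl
              right_inv := fun x => rfl }
        have h8' : 8 ∣ Nat.card (normalizer ((V : Subgroup N) : Set N)) *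
            N.relIndex (normalizer (W : Set G)) := hmul ▸ h8.trans hdvd
        have hodd : (N.relIndex (normalizer (W : Set G))).Coprime 8 := by
          have ho : Odd (N.relIndex (normalizer (W : Set G))) := Odd.of_dvd_nat hindex hrel
          exact Nat.Coprime.pow_right 3 ho.coprime_two_right
        exact (show 4 ∣ 8 by norm_num).trans (hodd.symm.dvd_of_dvd_mul_right h8') }
  have hself : ∀ c : Sylow 2 N, CS c = (c : Subgroup N) := fun c => C.centralizer_eq_self c
  obtain ⟨c0⟩ : Nonempty (Sylow 2 N) := inferInstance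
  have hsq : ∀ c : Sylow 2 N, ∀ x ∈ c, x * x = 1 := C.hel
  obtain ⟨F, _, _, hF, hiso⟩ := Cfsg.Agent.S1230.result c0 (fun hc => by
      obtain ⟨g, hg⟩ := hc.exists_generator
      have h1 : orderOf g ∣ 2 := orderOf_dvd_of_pow_eq_one (Subtype.ext (by
        rw [pow_two]; exact hsq c0 _ g.2))
      have h2 : orderOf g = Nat.card (c0 : Subgroup N) := orderOf_eq_card_of_forall_mem_zpowers hg
      have := Nat.le_of_dvd two_pos h1
      have := hcard c0
      omega) (hnotnormal c0) (fun t ht => by
      have hp : IsPGroup 2 (zpowers t) := IsPGroup.of_card (n := 1) (by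
        rw [Nat.card_zpowers, ht, pow_one])
      obtain ⟨c, hc⟩ := hp.exists_le_sylow
      have ht1 : t ≠ 1 := fun h => by rw [h, orderOf_one] at ht; omega
      rw [hcle c t (hc (mem_zpowers t)) ht1, hself c]
      exact ⟨⟨⟨fun a b => Subtype.ext (C.comm a.2 b.2)⟩⟩,
        fun x hx => by rw [pow_two]; exact hsq c x hx⟩)
  refine ⟨F, _, _, hF.trans (hcard c0), hiso, fun R t ht ht1 x hx => ?_⟩
  obtain ⟨hx1, hx2⟩ := mem_inf.1 hx
  set t' : N := ⟨t, hall R ht⟩
  have ht' : orderOf t' = 2 := (Subgroup.orderOf_mk t _).trans (ExpTwo.order_two hel ht ht1)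
  have hp : IsPGroup 2 (zpowers t') := IsPGroup.of_card (n := 1) (by
    rw [Nat.card_zpowers, ht', pow_one])
  obtain ⟨c, hc⟩ := hp.exists_le_sylow
  obtain ⟨R', hR'⟩ := hup c
  have hRR : R' = R :=
    ExpTwo.sylow_unique hC hel ((hmemup hR' t').2 (hc (mem_zpowers t'))) ht ht1
  have hxc : (⟨x, hx2⟩ : N) ∈ centralizer ({t'} : Set N) :=
    mem_centralizer_singleton_iff.2 (Subtype.ext (mem_centralizer_singleton_iff.1 hx1))
  rw [hcle c t' (hc (mem_zpowers t')) (fun h => ht1 (congrArg Subtype.val h)), hself c] at hxc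
  exact hRR ▸ (hmemup hR' ⟨x, hx2⟩).2 hxc

end Cfsg.Agent.ConjAll
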