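import Cfsg.Agent.ConjAll.Elem
import Cfsg.Agent.Transfer.Fusion
import Cfsg.Agent.S3278
import Cfsg.Agent.Alt.Automorphism

/-!
The socle of a group with conjugate subgroups of equal order and non-normal elementary abelian
Sylow 2-subgroup is simple.
-/

set_option autoImplicit false
set_option linter.style.haveILetI false
set_option linter.unusedSectionVars false

namespace Cfsg.Agent.ConjAll

open Subgroup
open scoped commutatorElement

variable {G : Type*} [Group G]

theorem map_pCore_normal (p : ℕ) (N : Subgroup G) [N.Normal] :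
    ((Cfsg.pCore p N).map N.subtype).Normal := by
  refine ⟨?_⟩
  rintro _ ⟨x, hx, rfl⟩ g
  exact ⟨MulAut.conjNormal g x,
    PSolv.map_pCore_le (MulAut.conjNormal g).toMonoidHom (MulAut.conjNormal g).surjective
      ⟨x, hx, rfl⟩, MulAut.conjNormal_apply g x⟩

theorem map_oddCore_normal [Finite G] (N : Subgroup G) [N.Normal] :
    ((Cfsg.oddCore N).map N.subtype).Normal := by
  refine ⟨?_⟩
  rintro _ ⟨x, hx, rfl⟩ g
  exact ⟨MulAut.conjNormal g x,
    PSolv.map_pPrimeCore_le (MulAut.conjNormal g).toMonoidHom (MulAut.conjNormal g).surjective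
      ⟨x, hx, rfl⟩, MulAut.conjNormal_apply g x⟩

theorem exists_invol_of_even [Finite G] {M : Subgroup G} (h : Even (Nat.card M)) :
    ∃ x ∈ M, orderOf x = 2 := by
  haveI : Fact (Nat.Prime 2) := ⟨Nat.prime_two⟩
  obtain ⟨x, hx⟩ := exists_prime_orderOf_dvd_card' 2 (even_iff_two_dvd.1 h)
  exact ⟨x, x.2, (Subgroup.orderOf_coe x).trans hx⟩

variable [Finite G] (hC : IsConjAll G) (hel : ExpTwo G) (hO : Cfsg.oddCore G = ⊥)
include hC hel hO

theorem even_of_normal_ne_bot {M : Subgroup G} (hM : M.Normal) (h : M ≠ ⊥) :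
    Even (Nat.card M) := by
  rw [even_iff_two_dvd]
  by_contra hodd
  exact h (eq_bot_iff.2 (hO ▸ PSolv.le_pPrimeCore hM
    (Nat.prime_two.coprime_iff_not_dvd.2 hodd).symm))

theorem exists_socle (S : Sylow 2 G) (hS : 1 < Nat.card S) (hnn : ¬ (S : Subgroup G).Normal) :
    ∃ N : Subgroup G, N.Normal ∧ IsSimpleGroup N ∧ (∀ R : Sylow 2 G, (R : Subgroup G) ≤ N) ∧
      centralizer (N : Set G) = ⊥ ∧ Odd N.index ∧ N ≤ commutator G := by
  haveI : Fact (Nat.Prime 2) := ⟨Nat.prime_two⟩
  obtain ⟨⟨t, htS⟩, ht1'⟩ : ∃ t : (S : Subgroup G), t ≠ 1 := by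
    haveI : Nontrivial (S : Subgroup G) := Finite.one_lt_card_iff_nontrivial.1 hS
    exact exists_ne 1
  have ht1 : t ≠ 1 := fun h => ht1' (Subtype.ext h)
  have hto := ExpTwo.order_two hel htS ht1
  have hkey : ∀ M : Subgroup G, M.Normal → M ≠ ⊥ → ∀ R : Sylow 2 G, (R : Subgroup G) ≤ M := by
    intro M hM hMb R x hx
    rcases eq_or_ne x 1 with rfl | hx1
    · exact one_mem M
    obtain ⟨y, hyM, hy⟩ := exists_invol_of_even (even_of_normal_ne_bot hC hel hO hM hMb)
    obtain ⟨g, hg⟩ := hC.conj_invol hy (ExpTwo.order_two hel hx hx1)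
    rw [← hg]
    exact hM.conj_mem y hyM g
  have hcore : ∀ M : Subgroup G, M.Normal → IsPGroup 2 M → M = ⊥ := by
    intro M hM hp
    by_contra hMb
    refine hnn ?_
    have h : (S : Subgroup G) = M := by
      obtain ⟨Q, hQ⟩ := hp.exists_le_sylow
      exact le_antisymm (hkey M hM hMb S) (fun x hx => by
        rw [← ExpTwo.sylow_unique hC hel (hQ (hkey M hM hMb S htS)) htS ht1]; exact hQ hx)
    rwa [h]
  set N := normalClosure ({t} : Set G) with hN
  haveI hNn : N.Normal := normalClosure_normal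
  have hNb : N ≠ ⊥ := fun h => ht1 (Subgroup.mem_bot.1 (h ▸ subset_normalClosure rfl))
  have hall := hkey N hNn hNb
  have hmin : ∀ M : Subgroup G, M.Normal → M ≠ ⊥ → N ≤ M := fun M hM hMb => by
    haveI := hM
    exact normalClosure_le_normal (Set.singleton_subset_iff.2 (hkey M hM hMb S htS))
  have hindex : Odd N.index := by
    rw [← Nat.not_even_iff_odd, even_iff_two_dvd]
    exact fun h => S.not_dvd_index (h.trans (Subgroup.index_dvd_of_le (hall S)))
  have hcent : centralizer (N : Set G) = ⊥ := by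
    by_contra hb
    haveI : (centralizer (N : Set G)).Normal := inferInstance
    have htc : t ∈ centralizer (N : Set G) := hkey _ inferInstance hb S htS
    refine hnn ?_
    have hle : ∀ R : Sylow 2 G, R = S := by
      intro R
      obtain ⟨⟨x, hx⟩, hx1⟩ : ∃ x : (R : Subgroup G), x ≠ 1 := by
        haveI : Nontrivial (R : Subgroup G) := Finite.one_lt_card_iff_nontrivial.1 (by
          rw [R.card_eq_multiplicity, ← S.card_eq_multiplicity]; exact hS)
        exact exists_ne 1
      have hcx : x ∈ centralizer ({t} : Set G) :=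
        mem_centralizer_singleton_iff.2 (mem_centralizer_iff.1 htc x (hall R hx))
      have hxS : x ∈ S := by
        have hp : IsPGroup 2 (zpowers x) := IsPGroup.of_card (n := 1) (by
          rw [Nat.card_zpowers, pow_one]; exact ExpTwo.order_two hel hx (fun h => hx1 (Subtype.ext h)))
        have := hp.inf_normalizer_sylow S
        have hmem : x ∈ zpowers x ⊓ (S : Subgroup G) :=
          this ▸ ⟨mem_zpowers x, ExpTwo.cent_le_norm hC hel htS ht1 hcx⟩
        exact hmem.2
      exact ExpTwo.sylow_unique hC hel hx hxS (fun h => hx1 (Subtype.ext h))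
    haveI : Subsingleton (Sylow 2 G) := ⟨fun a b => (hle a).trans (hle b).symm⟩
    exact Sylow.normal_of_subsingleton S
  haveI : Nontrivial N := ⟨⟨⟨t, subset_normalClosure rfl⟩, 1, fun h => ht1 (congrArg Subtype.val h)⟩⟩
  have hsimple : IsSimpleGroup N := by
    refine ⟨fun M hM => or_iff_not_imp_left.2 fun hMb => ?_⟩
    classical
    -- a minimal normal subgroup of `N` inside `M`
    have hex : ∃ n, ∃ T : Subgroup N, T.Normal ∧ T ≠ ⊥ ∧ T ≤ M ∧ Nat.card T = n :=
      ⟨_, M, hM, hMb, le_rfl, rfl⟩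
    obtain ⟨T, hT, hTb, hTM, hTc⟩ := Nat.find_spec hex
    have hTmin : ∀ T' : Subgroup N, T'.Normal → T' ≤ T → T' ≠ ⊥ → T' = T := fun T' h1 h2 h3 =>
      Subgroup.eq_of_le_of_card_ge h2 (hTc.le.trans
        (Nat.find_le ⟨T', h1, h3, h2.trans hTM, rfl⟩))
    have hTeven : Even (Nat.card T) := by
      rw [even_iff_two_dvd]
      by_contra hodd
      have h1 : T ≤ Cfsg.oddCore N :=
        PSolv.le_pPrimeCore hT (Nat.prime_two.coprime_iff_not_dvd.2 hodd).symm
      have h2 : (Cfsg.oddCore N).map N.subtype = ⊥ := by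
        refine eq_bot_iff.2 (hO ▸ PSolv.le_pPrimeCore (map_oddCore_normal N) ?_)
        rw [Subgroup.card_map_of_injective N.subtype_injective]
        exact PSolv.coprime_card_pPrimeCore 2 N
      rw [Subgroup.map_eq_bot_iff_of_injective _ N.subtype_injective] at h2
      exact hTb (eq_bot_iff.2 (h2 ▸ h1))
    set T0 := T.map N.subtype with hT0
    by_cases hT0n : T0.Normal
    · have h1 := hmin T0 hT0n (by
        rw [hT0, Ne, Subgroup.map_eq_bot_iff_of_injective _ N.subtype_injective]; exact hTb)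
      refine eq_top_iff.2 fun x _ => hTM ?_
      obtain ⟨y, hy, e⟩ := h1 x.2
      rwa [← Subtype.ext e]
    exfalso
    obtain ⟨g, hg⟩ : ∃ g : G, T.map (MulAut.conjNormal g : MulAut N).toMonoidHom ≠ T := by
      by_contra hcon
      push Not at hcon
      refine hT0n ⟨?_⟩
      rintro _ ⟨x, hx, rfl⟩ g
      exact ⟨MulAut.conjNormal g x, (hcon g).le ⟨x, hx, rfl⟩, MulAut.conjNormal_apply g x⟩
    set T1 := T.map (MulAut.conjNormal g : MulAut N).toMonoidHom with hT1
    have hT1n : T1.Normal := hT.map _ (MulEquiv.surjective _)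
    have hT1c : Nat.card T1 = Nat.card T := Subgroup.card_map_of_injective (MulEquiv.injective _)
    have hinf : T ⊓ T1 = ⊥ := by
      by_contra h
      haveI := hT
      haveI := hT1n
      have h1 := hTmin _ (Subgroup.normal_inf_normal T T1) inf_le_left h
      exact hg (Subgroup.eq_of_le_of_card_ge (h1 ▸ inf_le_right) hT1c.le).symm
    obtain ⟨a, ha, hao⟩ := exists_invol_of_even hTeven
    obtain ⟨b, hb, hbo⟩ := exists_invol_of_even (hT1c.symm ▸ hTeven : Even (Nat.card T1))
    have hcomm : ∀ y ∈ T1, Commute a y := fun y hy =>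
      Subgroup.commute_of_normal_of_disjoint T T1 hT hT1n (disjoint_iff.2 hinf) a y ha hy
    obtain ⟨R, hR⟩ : ∃ R : Sylow 2 G, (a : G) ∈ R := by
      obtain ⟨R, hR⟩ := (IsPGroup.of_card (p := 2) (n := 1) (by
        rw [Nat.card_zpowers, pow_one, Subgroup.orderOf_coe, hao]) :
        IsPGroup 2 (zpowers (a : G))).exists_le_sylow
      exact ⟨R, hR (mem_zpowers _)⟩
    have ha1 : (a : G) ≠ 1 := fun h => by
      rw [show a = 1 from Subtype.ext h, orderOf_one] at hao; omega
    have hT1R : ∀ y ∈ T1, (y : G) ∈ normalizer ((R : Subgroup G) : Set G) := fun y hy =>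
      ExpTwo.cent_le_norm hC hel hR ha1
        (mem_centralizer_singleton_iff.2 (congrArg Subtype.val (hcomm y hy).eq.symm))
    -- the intersection with the Sylow subgroup is a normal 2-subgroup
    let W : Subgroup T1 := (R : Subgroup G).comap (N.subtype.comp T1.subtype)
    haveI hWn : W.Normal := ⟨fun x hx y => by
      show ((y : N) : G) * ((x : N) : G) * ((y : N) : G)⁻¹ ∈ (R : Subgroup G)
      exact (mem_normalizer_iff.1 (hT1R y y.2) _).1 hx⟩
    have hWp : IsPGroup 2 W := R.2.comap_of_injective _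
      (N.subtype_injective.comp T1.subtype_injective)
    have hbW : (⟨b, hb⟩ : T1) ∈ W := by
      have hp : IsPGroup 2 (zpowers (b : G)) := IsPGroup.of_card (n := 1) (by
        rw [Nat.card_zpowers, pow_one, Subgroup.orderOf_coe, hbo])
      have hmem : (b : G) ∈ zpowers (b : G) ⊓ (R : Subgroup G) :=
        (hp.inf_normalizer_sylow R) ▸ ⟨mem_zpowers _, hT1R b hb⟩
      exact hmem.2
    haveI := hT1n
    have h1 : (b : N) ∈ (Cfsg.pCore 2 T1).map T1.subtype :=
      ⟨⟨b, hb⟩, PSolv.le_pCore hWn hWp hbW, rfl⟩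
    have h2 : (b : N) ∈ Cfsg.pCore 2 N :=
      PSolv.le_pCore (map_pCore_normal 2 T1) ((PSolv.isPGroup_pCore 2 T1).map _) h1
    have h3 := hcore _ (map_pCore_normal 2 N) ((PSolv.isPGroup_pCore 2 N).map _)
    have h4 : (b : G) ∈ (⊥ : Subgroup G) := h3 ▸ (⟨b, h2, rfl⟩ : (b : G) ∈ (Cfsg.pCore 2 N).map N.subtype)
    rw [show b = 1 from Subtype.ext (Subgroup.mem_bot.1 h4), orderOf_one] at hbo
    omega
  refine ⟨N, hNn, hsimple, hall, hcent, hindex, ?_⟩
  haveI := hsimple
  rcases (inferInstance : (commutator N).Normal).eq_bot_or_eq_top with h | h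
  · exfalso
    have hab : ∀ x ∈ N, x ∈ centralizer (N : Set G) := fun x hx => mem_centralizer_iff.2 fun y hy => by
      have hc : ⁅(⟨y, hy⟩ : N), ⟨x, hx⟩⁆ ∈ commutator N :=
        Subgroup.commutator_mem_commutator (mem_top _) (mem_top _)
      rw [h, Subgroup.mem_bot, commutatorElement_eq_one_iff_mul_comm] at hc
      exact congrArg Subtype.val hc
    exact hNb (eq_bot_iff.2 (hcent ▸ hab))
  · intro x hx
    have : (⟨x, hx⟩ : N) ∈ commutator N := h ▸ mem_top _
    have h2 : x ∈ (commutator N).map N.subtype := ⟨_, this, rfl⟩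
    rw [_root_.commutator_def, Subgroup.map_commutator] at h2
    exact Subgroup.commutator_mono le_top le_top h2

omit hO in
/-- Rank two: the socle is the alternating group of degree five. -/
theorem rank_two_simple (S : Sylow 2 G) (hS : Nat.card S = 4) (N : Subgroup G) [N.Normal]
    [IsSimpleGroup N] (hall : ∀ R : Sylow 2 G, (R : Subgroup G) ≤ N)
    (hcent : centralizer (N : Set G) = ⊥) (hindex : Odd N.index) :
    Nonempty (G ≃* alternatingGroup (Fin 5)) := by
  obtain ⟨⟨t, htS⟩, ht1'⟩ : ∃ t : (S : Subgroup G), t ≠ 1 := by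
    haveI : Nontrivial (S : Subgroup G) := Finite.one_lt_card_iff_nontrivial.1 (by omega)
    exact exists_ne 1
  have ht1 : t ≠ 1 := fun h => ht1' (Subtype.ext h)
  have hto := ExpTwo.order_two hel htS ht1
  set S₀ := (S : Subgroup G).subgroupOf N with hS₀
  set C := centralizer ({(⟨t, hall S htS⟩ : N)} : Set N) with hCdef
  have hle : S₀ ≤ C := fun x hx => mem_centralizer_singleton_iff.2
    (Subtype.ext (ExpTwo.comm hel hx htS))
  haveI hnt : Nontrivial S₀ :=
    ⟨⟨⟨⟨t, hall S htS⟩, htS⟩, 1, fun h => ht1 (congrArg (fun x : S₀ => ((x : N) : G)) h)⟩⟩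
  have hK : IsKleinFour S₀ := ⟨by
    rw [Nat.card_congr (subgroupOfEquivOfLe (hall S)).toEquiv, hS],
    (Monoid.exponent_eq_prime_iff Nat.prime_two).2 fun x hx => by
      refine orderOf_eq_prime ?_ hx
      rw [pow_two]
      exact Subtype.ext (Subtype.ext (hel S _ x.2))⟩
  have hodd : ¬ 2 ∣ S₀.relIndex C := fun h => S.not_dvd_index
    ((h.trans (Subgroup.relIndex_dvd_index_of_le hle)).trans
      (Subgroup.relIndex_dvd_index_of_le (hall S)))
  have hn : (S₀.subgroupOf C).Normal := ⟨fun x hx y => by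
    show ((y : N) : G) * ((x : N) : G) * ((y : N) : G)⁻¹ ∈ (S : Subgroup G)
    exact (mem_normalizer_iff.1 (ExpTwo.cent_le_norm hC hel htS ht1 (mem_centralizer_singleton_iff.2
      (congrArg Subtype.val (mem_centralizer_singleton_iff.1 y.2)))) _).1 hx⟩
  obtain ⟨e⟩ := Cfsg.Agent.S3278.result (⟨t, hall S htS⟩ : N)
    (by rw [Subgroup.orderOf_mk]; exact hto) S₀ hle hK hodd hn
  have hinj : Function.Injective (MulAut.conjNormal (H := N)) := by
    rw [← MonoidHom.ker_eq_bot_iff, eq_bot_iff, ← hcent]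
    intro g hg
    refine mem_centralizer_iff.2 fun x hx => ?_
    have h : MulAut.conjNormal g (⟨x, hx⟩ : N) = ⟨x, hx⟩ := by
      rw [MonoidHom.mem_ker.1 hg]; rfl
    have h' := congrArg Subtype.val h
    rw [MulAut.conjNormal_apply] at h'
    exact (mul_inv_eq_iff_eq_mul.1 h').symm
  have hd := Subgroup.card_dvd_of_injective _ hinj
  rw [Nat.card_congr (MulAut.congr e).toEquiv,
    Alt.card_mulAut_alternatingGroup (α := Fin 5) (by simp) (by simp), Nat.card_eq_fintype_card
      (α := Fin 5), Fintype.card_fin] at hd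
  have hN60 : Nat.card N = 60 := by
    rw [Nat.card_congr e.toEquiv, nat_card_alternatingGroup, Nat.card_eq_fintype_card,
      Fintype.card_fin]
    rfl
  rw [← Subgroup.card_mul_index N, hN60, show Nat.factorial 5 = 60 * 2 from rfl] at hd
  have h2 := Nat.dvd_of_mul_dvd_mul_left (by norm_num) hd
  have hi : N.index = 1 := by
    rcases (Nat.dvd_prime Nat.prime_two).1 h2 with h | h
    · exact h
    · rw [h] at hindex; exact absurd hindex (by decide)
  rw [Subgroup.index_eq_one] at hi
  exact ⟨(Subgroup.topEquiv.symm.trans (MulEquiv.subgroupCongr hi.symm)).trans e⟩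

end Cfsg.Agent.ConjAll
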